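import Groth.Agent.Lefpen.H714.EulerStrat
import Groth.Agent.Etrest.HConstIso
import Groth.Agent.EtpbcA.ArtinField
import Groth.Agent.Etrest.ConstBasic
import Groth.Agent.EtpbcB.TorsEt
import Groth.Agent.Sga4B.ConstLC

/-!
# `ec ℓ` : isomorphism invariance, spectrum of a separably closed field
-/

set_option autoImplicit false
set_option linter.auxLemma false
universe u
open CategoryTheory CategoryTheory.Limits CategoryTheory.Abelian AlgebraicGeometry Opposite TopologicalSpace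
open Groth.Agent.Etrest Groth.Agent.Sga4B

namespace Groth.Agent.Lefpen.H714.EcBasic

open EulerAlg EulerEt EulerOC EulerMV EulerConst EulerStrat

theorem nonempty_H_of_iso {X Y : Scheme.{u}} (i : X ≅ Y) (M : Type) [AddCommGroup M] (n : ℕ) :
    Nonempty (EtCoh.H X (EtCoh.const X M) n ≃ EtCoh.H Y (EtCoh.const Y M) n) :=
  ⟨(Etrest.HConstIso.nonempty_HConst i M n).some.symm.toEquiv⟩

theorem ec_of_iso {X Y : Scheme.{u}} (i : X ≅ Y) (ℓ : ℕ) : ec ℓ X = ec ℓ Y :=
  e_congr (nonempty_H_of_iso i (ZMod ℓ))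

theorem goodE_of_iso {X Y : Scheme.{u}} (i : X ≅ Y) (ℓ : ℕ) (h : GoodE X (EtCoh.const X (ZMod ℓ))) :
    GoodE Y (EtCoh.const Y (ZMod ℓ)) := h.congr (nonempty_H_of_iso i (ZMod ℓ))

/-- `H⁰(X, M)` is the group of locally constant functions with values in `M`. -/
noncomputable def H0const (X : Scheme.{u}) (M : Type) [AddCommGroup M] :
    EtCoh.H X (EtCoh.const X M) 0 ≃+ LocallyConstant X (ULift.{u + 1} M) :=
  AddEquiv.trans (Sheaf.H.equiv₀ _ (EtCore.topIsTerminal X))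
    (((sheafToPresheaf _ _).mapIso (Groth.Agent.Sga4B.ConstLC.constIso X M)).app
      (op (EtCoh.top X))).addCommGroupIsoToAddEquiv

theorem subsingleton_H_point (K : Type u) [Field K] [IsSepClosed K] (ℓ : ℕ) (hℓ : 0 < ℓ) (q : ℕ) (hq : 0 < q) :
    Subsingleton (EtCoh.H (Spec (CommRingCat.of K)) (EtCoh.const (Spec (CommRingCat.of K)) (ZMod ℓ)) q) :=
  EtpbcA.Artin.cohDimLE_of_isSepClosed K _ (EtpbcB.TorsEt.isTorsion_of_killedBy hℓ _
    (Etrest.ConstBasic.killedBy_const _ (ZMod ℓ) ℓ (fun m => by simp))) q hq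

theorem card_H0_point (K : Type u) [Field K] (ℓ : ℕ) :
    Nat.card (EtCoh.H (Spec (CommRingCat.of K)) (EtCoh.const (Spec (CommRingCat.of K)) (ZMod ℓ)) 0) = ℓ := by
  have hs : Subsingleton (Spec (CommRingCat.of K)) := inferInstanceAs (Subsingleton (PrimeSpectrum K))
  have hne : Nonempty (Spec (CommRingCat.of K)) := inferInstanceAs (Nonempty (PrimeSpectrum K))
  obtain ⟨x⟩ := hne
  let f : LocallyConstant (Spec (CommRingCat.of K)) (ULift.{u + 1} (ZMod ℓ)) ≃ ZMod ℓ :=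
    { toFun := fun g => (g x).down
      invFun := fun a => LocallyConstant.const _ ⟨a⟩
      left_inv := fun g => by
        ext y
        rw [Subsingleton.elim y x]
        rfl
      right_inv := fun a => rfl }
  rw [Nat.card_congr ((H0const _ (ZMod ℓ)).toEquiv.trans f), Nat.card_zmod]

theorem goodE_point (K : Type u) [Field K] [IsSepClosed K] (ℓ : ℕ) (hℓ : 0 < ℓ) :
    GoodE (Spec (CommRingCat.of K)) (EtCoh.const (Spec (CommRingCat.of K)) (ZMod ℓ)) where
  fin n := by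
    rcases Nat.eq_zero_or_pos n with rfl | hn
    · refine Nat.finite_of_card_ne_zero ?_
      rw [card_H0_point]
      exact hℓ.ne'
    · have := subsingleton_H_point K ℓ hℓ n hn
      infer_instance
  bdd := ⟨0, fun n hn => subsingleton_H_point K ℓ hℓ n hn⟩

theorem ec_point (K : Type u) [Field K] [IsSepClosed K] (ℓ : ℕ) (hℓ : 0 < ℓ) :
    ec ℓ (Spec (CommRingCat.of K)) = Real.log ℓ := by
  unfold ec e
  rw [chi_eq_sum 0 (fun n hn => subsingleton_H_point K ℓ hℓ n hn)]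
  simp only [zero_add, Finset.range_one, Finset.sum_singleton, pow_zero, one_mul]
  unfold lg
  rw [card_H0_point]

theorem ec_empty (X : Scheme.{u}) [IsEmpty X] (ℓ : ℕ) : ec ℓ X = 0 :=
  (e_of_isZero X _ (isZero_of_isEmpty X _)).2

theorem χ_bot (Y : Scheme.{u}) (ℓ : ℕ) : χ ℓ (⊥ : Closeds Y) = 0 := by
  have h1 : IsEmpty (YT (⊥ : Closeds Y)) := by
    refine ⟨fun x => ?_⟩
    have h2 : ιT (⊥ : Closeds Y) x ∈ Set.range (ιT (⊥ : Closeds Y)) := ⟨x, rfl⟩
    rw [range_ιT] at h2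
    exact h2
  exact ec_empty _ ℓ

theorem χ_top (Y : Scheme.{u}) (ℓ : ℕ) : χ ℓ (⊤ : Closeds Y) = ec ℓ Y :=
  χ_eq (𝟙 Y) ⊤ (by simp) ℓ

end Groth.Agent.Lefpen.H714.EcBasic
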