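import Groth.Prelude.Def_EtBase
import Mathlib.AlgebraicGeometry.Morphisms.ClosedImmersion
import Mathlib.AlgebraicGeometry.Morphisms.FinitePresentation
import Mathlib.RingTheory.MvPolynomial.Basic
import Mathlib.RingTheory.MvPolynomial.Ideal
import Mathlib.RingTheory.LocalRing.ResidueField.Basic

/-!
# Hypersurface models over a local ring

`Mod σ A f = Spec (A[X_σ] / (f)) → Spec A`, and the origin `orig` of its closed fibre.
-/

set_option autoImplicit false
universe u
open CategoryTheory CategoryTheory.Limits AlgebraicGeometry IsLocalRing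

namespace Groth.Agent.Lefpen.H714.Models

variable (σ : Type) (A : Type u) [CommRing A] (f : MvPolynomial σ A)

/-- The model `Spec (A[X_σ] / (f))`. -/
noncomputable abbrev Mod : Scheme.{u} := Spec (CommRingCat.of (MvPolynomial σ A ⧸ Ideal.span {f}))

/-- The structure morphism of the model. -/
noncomputable abbrev toBase : Mod σ A f ⟶ Spec (CommRingCat.of A) :=
  Spec.map (CommRingCat.ofHom ((Ideal.Quotient.mk (Ideal.span {f})).comp MvPolynomial.C))

instance [Finite σ] : LocallyOfFiniteType (toBase σ A f) := by
  rw [HasRingHomProperty.Spec_iff (P := @LocallyOfFiniteType)]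
  have h1 : Algebra.FiniteType A (MvPolynomial σ A ⧸ Ideal.span {f}) := inferInstance
  have h2 : (algebraMap A (MvPolynomial σ A ⧸ Ideal.span {f})).FiniteType :=
    (RingHom.finiteType_algebraMap (A := A) (B := MvPolynomial σ A ⧸ Ideal.span {f})).2 h1
  exact h2

variable [IsLocalRing A] (hf : residue A (MvPolynomial.constantCoeff f) = 0)

/-- evaluation at the origin of the closed fibre -/
noncomputable def ev : MvPolynomial σ A →+* ResidueField A := (residue A).comp MvPolynomial.constantCoeff

include hf in
theorem ev_mem (x : MvPolynomial σ A) (hx : x ∈ Ideal.span {f}) : ev σ A x = 0 := by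
  obtain ⟨y, rfl⟩ := Ideal.mem_span_singleton'.1 hx
  change residue A (MvPolynomial.constantCoeff (y * f)) = 0
  rw [map_mul, map_mul, hf, mul_zero]

/-- evaluation at the origin, on the quotient -/
noncomputable def evq : (MvPolynomial σ A ⧸ Ideal.span {f}) →+* ResidueField A :=
  Ideal.Quotient.lift _ (ev σ A) (ev_mem σ A f hf)

theorem evq_mk (x : MvPolynomial σ A) : evq σ A f hf (Ideal.Quotient.mk _ x) =
    residue A (MvPolynomial.constantCoeff x) := Ideal.Quotient.lift_mk _ _ _

theorem evq_C (a : A) : evq σ A f hf (Ideal.Quotient.mk _ (MvPolynomial.C a)) = residue A a := by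
  rw [evq_mk, MvPolynomial.constantCoeff_C]

theorem surjective_evq : Function.Surjective (evq σ A f hf) := by
  intro y
  obtain ⟨a, rfl⟩ := residue_surjective y
  exact ⟨Ideal.Quotient.mk _ (MvPolynomial.C a), evq_C σ A f hf a⟩

/-- The origin of the closed fibre of the model. -/
noncomputable abbrev orig : Spec (CommRingCat.of (ResidueField A)) ⟶ Mod σ A f :=
  Spec.map (CommRingCat.ofHom (evq σ A f hf))

theorem isClosedImmersion_orig : IsClosedImmersion (orig σ A f hf) :=
  IsClosedImmersion.spec_of_surjective _ (surjective_evq σ A f hf)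

theorem orig_toBase : orig σ A f hf ≫ toBase σ A f = Spec.map (CommRingCat.ofHom (residue A)) := by
  rw [← Spec.map_comp, ← CommRingCat.ofHom_comp]
  congr 2
  ext a
  exact evq_C σ A f hf a

/-- a point of the model over the closed point at which all coordinates vanish is the origin -/
theorem mem_range_orig (y : Mod σ A f) (h1 : ∀ s : σ, Ideal.Quotient.mk (Ideal.span {f}) (MvPolynomial.X s) ∈ y.asIdeal)
    (h2 : ∀ a ∈ maximalIdeal A, Ideal.Quotient.mk (Ideal.span {f}) (MvPolynomial.C a) ∈ y.asIdeal) :
    y ∈ Set.range (orig σ A f hf) := by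
  have hle : RingHom.ker (evq σ A f hf) ≤ y.asIdeal := by
    intro x hx
    obtain ⟨p, rfl⟩ := Ideal.Quotient.mk_surjective x
    rw [RingHom.mem_ker, evq_mk, residue_eq_zero_iff] at hx
    have h3 : p - MvPolynomial.C (MvPolynomial.constantCoeff p) ∈
        Ideal.span (Set.range (MvPolynomial.X : σ → MvPolynomial σ A)) := by
      rw [← Set.image_univ, MvPolynomial.mem_ideal_span_X_image]
      intro m hm
      have h5 : m ≠ 0 := by
        rintro rfl
        rw [MvPolynomial.mem_support_iff] at hm
        apply hm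
        rw [MvPolynomial.coeff_sub, MvPolynomial.coeff_zero_C]
        exact sub_self _
      obtain ⟨i, hi⟩ := Finsupp.ne_iff.1 h5
      exact ⟨i, trivial, hi⟩
    have h4 : p = (p - MvPolynomial.C (MvPolynomial.constantCoeff p)) +
        MvPolynomial.C (MvPolynomial.constantCoeff p) := by ring
    rw [h4, map_add]
    refine Ideal.add_mem _ ?_ (h2 _ hx)
    have h6 : Ideal.span (Set.range (MvPolynomial.X : σ → MvPolynomial σ A)) ≤
        y.asIdeal.comap (Ideal.Quotient.mk (Ideal.span {f})) := by
      rw [Ideal.span_le]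
      rintro _ ⟨s, rfl⟩
      exact h1 s
    exact h6 h3
  have hmax : (RingHom.ker (evq σ A f hf)).IsMaximal :=
    RingHom.ker_isMaximal_of_surjective _ (surjective_evq σ A f hf)
  refine ⟨⟨⊥, Ideal.isPrime_bot⟩, ?_⟩
  apply PrimeSpectrum.ext
  have h7 : (orig σ A f hf ⟨⊥, Ideal.isPrime_bot⟩).asIdeal = RingHom.ker (evq σ A f hf) := rfl
  rw [h7]
  exact hmax.eq_of_le y.isPrime.ne_top hle

/-- the same, with the condition on the image in the base -/
theorem mem_range_orig' (y : Mod σ A f)
    (h1 : ∀ s : σ, Ideal.Quotient.mk (Ideal.span {f}) (MvPolynomial.X s) ∈ y.asIdeal)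
    (h2 : toBase σ A f y ∈ Set.range (Spec.map (CommRingCat.ofHom (residue A)))) :
    y ∈ Set.range (orig σ A f hf) := by
  refine mem_range_orig σ A f hf y h1 fun a ha => ?_
  obtain ⟨z, hz⟩ := h2
  have h3 : a ∈ (toBase σ A f y).asIdeal := by
    rw [← hz]
    change residue A a ∈ z.asIdeal
    rw [(residue_eq_zero_iff a).2 ha]
    exact Ideal.zero_mem _
  exact h3

end Groth.Agent.Lefpen.H714.Models
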