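import Groth.Agent.Lefpen.H714.NcBase
import Groth.Agent.S0185
import Groth.Agent.S3132
import Groth.Agent.EtpbcA.CdTwoDim
import Groth.Agent.EtpbcA.CdFinDim
import Groth.Agent.Etbc.H228.ConverseH
import Groth.Agent.EtpbcA.StrataGlob
import Groth.Agent.S0127

/-!
# Finiteness and vanishing of the groups `Ao` and of the cohomology of proper schemes
-/

set_option autoImplicit false
set_option linter.auxLemma false
universe u
open CategoryTheory CategoryTheory.Limits CategoryTheory.Abelian AlgebraicGeometry Opposite TopologicalSpace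
open Groth.Agent.Etrest Groth.Agent.Sga4B

namespace Groth.Agent.Lefpen.H714.NcFinite

open EulerAlg EulerEt EulerOC EulerMV EulerConst EulerStrat NcBase

theorem isTorsion_const (ℓ : ℕ) (hℓ : 0 < ℓ) (X : Scheme.{u}) : EtCoh.IsTorsion (EtCoh.const X (ZMod ℓ)) :=
  EtpbcB.TorsEt.isTorsion_of_killedBy hℓ _ (killedBy_const ℓ X)

/-- Constant sheaves on proper schemes over a separably closed field are good. -/
theorem goodE_proper {K : Type u} [Field K] [IsSepClosed K] (ℓ : ℕ) (hℓ : 0 < ℓ) (X : Scheme.{u})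
    (a : X ⟶ Spec (CommRingCat.of K)) [IsProper a] : GoodE X (EtCoh.const X (ZMod ℓ)) where
  fin n := by
    have : NeZero ℓ := ⟨hℓ.ne'⟩
    have : Finite (ZMod ℓ) := inferInstance
    exact Groth.Agent.S0185.result X a ℓ hℓ _ (Etrest.ConstBasic.isConstructible_const X (ZMod ℓ))
      (killedBy_const ℓ X) n
  bdd := by
    obtain ⟨d, hd⟩ := EtpbcA.CdFinDim.exists_dim_le a
    exact ⟨2 * d, fun n hn => EtpbcA.CdTwoDim.cohDimLE_two_mul X a d hd _ (isTorsion_const ℓ hℓ X) n hn⟩

/-- Vanishing of `R^q j_*` in large degrees. -/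
theorem exists_isZero_Gq {Ω : Type u} [Field Ω] [IsSepClosed Ω] {S : Scheme.{u}}
    (η : Spec (CommRingCat.of Ω) ⟶ S) (ℓ : ℕ) (hℓ : 0 < ℓ) {M : Scheme.{u}} (g : M ⟶ S)
    [LocallyOfFiniteType g] [QuasiCompact g] [IsAffineHom η] : ∃ Q : ℕ, ∀ q, Q < q → IsZero (Gq η ℓ g q) := by
  obtain ⟨d, hd⟩ := EtpbcA.CdFinDim.exists_dim_le (pullback.snd g η)
  refine ⟨2 * d, fun q hq => ?_⟩
  obtain ⟨m, rfl⟩ : ∃ m, q = m + 1 := ⟨q - 1, by omega⟩
  have h1 := Etbc.H228.ConverseH.isZero_Rpush_of_affine (pullback.fst g η) (EtCoh.const M (ZMod ℓ)) m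
    (fun W hW => by
      intro _
      have haff0 : IsAffineHom (pullback.fst g η) := MorphismProperty.pullback_fst _ _ inferInstance
      have haff : IsAffineHom (pullback.fst W.hom (pullback.fst g η)) :=
        MorphismProperty.pullback_fst _ _ inferInstance
      have hW' : IsAffine ((𝟭 Scheme).obj W.left) := hW
      have h2 : IsAffine (pullback W.hom (pullback.fst g η)) :=
        isAffine_of_isAffineHom (pullback.fst W.hom (pullback.fst g η))
      have h3 : Etale (pullback.snd W.hom (pullback.fst g η)) := inferInstance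
      have h4 := EtpbcA.CdFinDim.dim_le_of_etale (pullback.snd g η) (pullback.snd W.hom (pullback.fst g η)) d hd
      have h5 : QuasiCompact (pullback.snd W.hom (pullback.fst g η) ≫ pullback.snd g η) := by
        rw [quasiCompact_iff_compactSpace]
        infer_instance
      have h6 := EtpbcA.CdTwoDim.cohDimLE_two_mul _ (pullback.snd W.hom (pullback.fst g η) ≫ pullback.snd g η) d h4
        ((EtCoh.pull (pullback.fst W.hom (pullback.fst g η))).obj
          ((EtCoh.pull W.hom).obj (EtCoh.const M (ZMod ℓ))))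
        (EtpbcB.TorsEt.isTorsion_of_killedBy hℓ _ (Etcore.Torsion.killedBy_pull ℓ _ _
          (Etcore.Torsion.killedBy_pull ℓ _ _ (killedBy_const ℓ M)))) (m + 1) hq
      exact fun x => ⟨0, Subsingleton.elim _ _⟩)
  exact h1.of_iso ((EtCoh.Rpush (pullback.fst g η) (m + 1)).mapIso (EtCore.pullConst _ (ZMod ℓ)).symm)

/-- sections over the point are `H^0` -/
noncomputable def aptEquiv {k : Type u} [Field k] (G : EtCoh.Ab (Spec (CommRingCat.of k))) :
    EtCoh.H (Spec (CommRingCat.of k)) G 0 ≃+ Apt k G :=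
  Sheaf.H.equiv₀ _ (EtCore.topIsTerminal (Spec (CommRingCat.of k)))

theorem subsingleton_Apt {k : Type u} [Field k] (G : EtCoh.Ab (Spec (CommRingCat.of k))) (h : IsZero G) :
    Subsingleton (Apt k G) := by
  have h1 : Subsingleton (EtCoh.H (Spec (CommRingCat.of k)) G 0) :=
    Sga4B.DualStep.subsingleton_H_of_isZero h 0
  exact (aptEquiv G).symm.toEquiv.subsingleton

section DVR

variable (R K Ω : Type u) [CommRing R] [IsDomain R] [IsDiscreteValuationRing R]
  (hR : EtCoh.IsStrictlyHenselianLocalRing R) [Field K] [Algebra R K] [IsFractionRing R K] [Field Ω]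
  [Algebra K Ω] [IsSepClosure K Ω] (ℓ : ℕ) [Fact ℓ.Prime] (hℓ : IsUnit (ℓ : R))

/-- The geometric generic point. -/
noncomputable abbrev gpt : Spec (CommRingCat.of Ω) ⟶ Spec (CommRingCat.of R) :=
  Spec.map (CommRingCat.ofHom ((algebraMap K Ω).comp (algebraMap R K)))

variable {M : Scheme.{u}} (g : M ⟶ Spec (CommRingCat.of R)) [LocallyOfFiniteType g] [QuasiCompact g]

include hR hℓ in
theorem isConstructible_psi (q : ℕ) : EtPBC.IsConstructible
    ((EtCoh.pull (pullback.fst g (Spec.map (CommRingCat.ofHom (IsLocalRing.residue R))))).obj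
      (Gq (gpt R K Ω) ℓ g q)) := by
  have : NeZero ℓ := ⟨(Fact.out : ℓ.Prime).ne_zero⟩
  have : Finite (ZMod ℓ) := inferInstance
  let c : pullback g (gpt R K Ω) ⟶ pullback g (Spec.map (CommRingCat.ofHom (algebraMap R K))) :=
    pullback.lift (pullback.fst _ _) (pullback.snd _ _ ≫ Spec.map (CommRingCat.ofHom (algebraMap K Ω))) (by
      rw [Category.assoc, ← Spec.map_comp, ← CommRingCat.ofHom_comp]
      exact pullback.condition)
  have h1 := Groth.Agent.S3132.result R K Ω hR ℓ hℓ g c (pullback.lift_fst _ _ _) (pullback.lift_snd _ _ _)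
    (EtCoh.const _ (ZMod ℓ)) (Etrest.ConstBasic.isConstructible_const _ (ZMod ℓ)) (killedBy_const ℓ _) q
  exact EtpbcA.StrataGlob.isConstructible_of_iso ((EtCoh.pull _).mapIso
    ((EtCoh.Rpush _ q).mapIso (EtCore.pullConst c (ZMod ℓ)))) h1

include hR hℓ in
theorem finite_Ao (o : Spec (CommRingCat.of (IsLocalRing.ResidueField R)) ⟶ M)
    (ho : o ≫ g = Spec.map (CommRingCat.ofHom (IsLocalRing.residue R))) (q : ℕ) :
    Finite (Ao (gpt R K Ω) ℓ g o q) := by
  have hsep : IsSepClosed (IsLocalRing.ResidueField R) := hR.2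
  let o' : Spec (CommRingCat.of (IsLocalRing.ResidueField R)) ⟶
      pullback g (Spec.map (CommRingCat.ofHom (IsLocalRing.residue R))) :=
    pullback.lift o (𝟙 _) (by rw [ho, Category.id_comp])
  have h1 := Groth.Agent.S0127.result o' _ (isConstructible_psi R K Ω hR ℓ hℓ g q)
  have e1 : (EtCoh.pull o').obj ((EtCoh.pull (pullback.fst g (Spec.map
      (CommRingCat.ofHom (IsLocalRing.residue R))))).obj (Gq (gpt R K Ω) ℓ g q)) ≅
        (EtCoh.pull o).obj (Gq (gpt R K Ω) ℓ g q) :=
    ((EtCore.pullComp o' _).symm ≪≫ EtCore.pullCongr (pullback.lift_fst _ _ _)).app _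
  have h2 := EtpbcA.StrataGlob.isConstructible_of_iso e1 h1
  have h3 : Finite (EtCoh.H (Spec (CommRingCat.of (IsLocalRing.ResidueField R)))
      ((EtCoh.pull o).obj (Gq (gpt R K Ω) ℓ g q)) 0) :=
    Groth.Agent.S0185.result _ (𝟙 _) ℓ (Fact.out : ℓ.Prime).pos _ h2
      (Etcore.Torsion.killedBy_pull ℓ o _ (killedBy_Gq (gpt R K Ω) ℓ g q)) 0
  exact Finite.of_equiv _ (aptEquiv _).toEquiv

include hR hℓ in
theorem good_Ao (o : Spec (CommRingCat.of (IsLocalRing.ResidueField R)) ⟶ M)
    (ho : o ≫ g = Spec.map (CommRingCat.ofHom (IsLocalRing.residue R))) :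
    Good (fun q => Ao (gpt R K Ω) ℓ g o q) where
  fin q := finite_Ao R K Ω hR ℓ hℓ g o ho q
  bdd := by
    have : IsSepClosed Ω := IsSepClosure.sep_closed K
    obtain ⟨Q, hQ⟩ := exists_isZero_Gq (gpt R K Ω) ℓ (Fact.out : ℓ.Prime).pos g
    exact ⟨Q, fun q hq => subsingleton_Apt _ ((EtCoh.pull o).map_isZero (hQ q hq))⟩

end DVR

end Groth.Agent.Lefpen.H714.NcFinite
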