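import Groth.Agent.Lefpen.H714.NcMain
import Groth.Agent.Lefpen.H714.NcFinite
import Groth.Agent.Lefpen.H714.Models
import Groth.Agent.Lefpen.H714.EcBasic
import Mathlib.Topology.JacobsonSpace
import Mathlib.AlgebraicGeometry.Morphisms.FiniteType

/-!
# The nearby cycle formula for the models `Spec R`, `xy = t`, `xy + tz = 0`
-/

set_option autoImplicit false
set_option linter.auxLemma false
set_option linter.unusedSectionVars false
universe u
open CategoryTheory CategoryTheory.Limits CategoryTheory.Abelian AlgebraicGeometry Opposite TopologicalSpace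
open Groth.Agent.Etrest Groth.Agent.Sga4B

namespace Groth.Agent.Lefpen.H714.NcThree

open EulerAlg EulerEt EulerOC EulerMV EulerConst EulerStrat NcBase NcMain NcFinite Models EcBasic

section closedFibre

variable (R : Type u) [CommRing R] [HenselianLocalRing R]
variable {W : Scheme.{u}} (f : W ⟶ Spec (CommRingCat.of R)) [IsProper f]

theorem isProper_snd : IsProper (pullback.snd f (cpt R)) := inferInstance

theorem noetherian_closedFibre : NoetherianSpace (pullback f (cpt R) : Scheme.{u}) := by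
  have h0 : IsNoetherianRing (CommRingCat.of (IsLocalRing.ResidueField R)) :=
    inferInstanceAs (IsNoetherianRing (IsLocalRing.ResidueField R))
  have h1 : IsLocallyNoetherian (pullback f (cpt R) : Scheme.{u}) :=
    LocallyOfFiniteType.isLocallyNoetherian (pullback.snd f (cpt R))
  have h2 : CompactSpace (pullback f (cpt R) : Scheme.{u}) :=
    QuasiCompact.compactSpace_of_compactSpace (pullback.snd f (cpt R))
  have h3 : IsNoetherian (pullback f (cpt R) : Scheme.{u}) := {}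
  infer_instance

theorem jacobson_closedFibre : JacobsonSpace (pullback f (cpt R) : Scheme.{u}) :=
  LocallyOfFiniteType.jacobsonSpace (pullback.snd f (cpt R))

theorem goodE_closedFibre [IsSepClosed (IsLocalRing.ResidueField R)] (ℓ : ℕ) (hℓ : 0 < ℓ)
    (D : Closeds (pullback f (cpt R) : Scheme.{u})) : GoodE (YT D) (EtCoh.const (YT D) (ZMod ℓ)) :=
  goodE_proper ℓ hℓ (YT D) (ιT D ≫ pullback.snd f (cpt R))

end closedFibre

theorem exists_closed_specialization {Y : Type u} [TopologicalSpace Y] [JacobsonSpace Y] (D D' : Closeds Y) (x : Y)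
    (h1 : x ∈ D) (h2 : x ∉ D') : ∃ x₀, IsClosed ({x₀} : Set Y) ∧ x₀ ∈ D ∧ x₀ ∉ D' ∧
      ∀ V : Set Y, IsOpen V → x₀ ∈ V → x ∈ V := by
  have hne : (closure {x} ∩ (D' : Set Y)ᶜ).Nonempty := ⟨x, subset_closure rfl, h2⟩
  obtain ⟨y, ⟨hy1, hy2⟩, hy3⟩ := nonempty_inter_closedPoints hne
    (isClosed_closure.isLocallyClosed.inter D'.isClosed.isOpen_compl.isLocallyClosed)
  refine ⟨y, hy3, ?_, hy2, fun V hV hyV => ?_⟩
  · exact (closure_minimal (Set.singleton_subset_iff.2 h1) D.isClosed) hy1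
  · obtain ⟨z, hz1, hz2⟩ := mem_closure_iff.1 hy1 V hV hyV
    rwa [Set.mem_singleton_iff.1 hz2] at hz1

section unit

variable (R : Type u) [CommRing R] [HenselianLocalRing R] [IsSepClosed (IsLocalRing.ResidueField R)]
  {Ω : Type u} [Field Ω] [IsSepClosed Ω] (η : Spec (CommRingCat.of Ω) ⟶ Spec (CommRingCat.of R))
  (ℓ : ℕ) [Fact ℓ.Prime] (hℓ : IsUnit (ℓ : R))

theorem isClosedImmersion_cpt : IsClosedImmersion (cpt R) :=
  IsClosedImmersion.spec_of_surjective _ IsLocalRing.residue_surjective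

include hℓ in
/-- The Euler number of the model `Spec R` is one. -/
theorem mu_unit (hg : Good (fun q => Ao η ℓ (𝟙 (Spec (CommRingCat.of R))) (cpt R) q)) :
    mu η ℓ (𝟙 (Spec (CommRingCat.of R))) (cpt R) = 1 := by
  have i0 := isClosedImmersion_cpt R
  have i1 := noetherian_closedFibre R (𝟙 (Spec (CommRingCat.of R)))
  let D : ℕ → Closeds (pullback (𝟙 (Spec (CommRingCat.of R))) (cpt R) : Scheme.{u}) := fun n =>
    match n with
    | 0 => ⊤
    | _ + 1 => ⊥
  obtain ⟨-, h⟩ := NcMain.main R η ℓ hℓ (𝟙 (Spec (CommRingCat.of R)))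
    (goodE_closedFibre R (𝟙 (Spec (CommRingCat.of R))) ℓ (Fact.out : ℓ.Prime).pos) 1 D
    (antitone_nat_of_succ_le fun n => by
      cases n with
      | zero => exact le_top
      | succ n => exact le_rfl) rfl rfl (fun _ => Spec (CommRingCat.of R)) (fun _ => 𝟙 _) (fun _ => cpt R)
    (fun _ => hg) (fun a ha x hx hx' => ⟨_, 𝟙 _, inferInstance, 𝟙 _, inferInstance, rfl, ⟨_, rfl⟩,
      fun y z _ _ hyz => by
        have h1 : y = pullback.fst (𝟙 (Spec (CommRingCat.of R))) (cpt R) z := hyz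
        refine ⟨pullback.snd (𝟙 (Spec (CommRingCat.of R))) (cpt R) z, ?_⟩
        rw [← Scheme.Hom.comp_apply, ← pullback.condition, h1]
        rfl⟩)
  rw [Finset.sum_range_one] at h
  have e1 : ec ℓ (pullback (𝟙 (Spec (CommRingCat.of R))) η) = Real.log ℓ := by
    rw [ec_of_iso (asIso (pullback.snd (𝟙 (Spec (CommRingCat.of R))) η)), ec_point Ω ℓ (Fact.out : ℓ.Prime).pos]
  have e2 : χ ℓ (D 0) = Real.log ℓ := by
    change χ ℓ (⊤ : Closeds _) = _
    rw [χ_top, ec_of_iso (asIso (pullback.snd (𝟙 (Spec (CommRingCat.of R))) (cpt R))),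
      ec_point _ ℓ (Fact.out : ℓ.Prime).pos]
  have e3 : χ ℓ (D (0 + 1)) = 0 := χ_bot _ ℓ
  rw [e1, e2, e3, sub_zero] at h
  have h4 : Real.log ℓ ≠ 0 := Real.log_ne_zero_of_pos_of_ne_one (by exact_mod_cast (Fact.out : ℓ.Prime).pos)
    (by exact_mod_cast (Fact.out : ℓ.Prime).one_lt.ne')
  have h5 : (1 : ℝ) * Real.log ℓ = mu η ℓ (𝟙 (Spec (CommRingCat.of R))) (cpt R) * Real.log ℓ := by
    rw [one_mul]; exact h
  exact (mul_right_cancel₀ h4 h5).symm

end unit

section three

variable (R : Type u) [CommRing R]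

/-- The equation `xy - t`. -/
noncomputable abbrev pA (t : R) : MvPolynomial (Fin 2) R :=
  MvPolynomial.X 0 * MvPolynomial.X 1 - MvPolynomial.C t

/-- The equation `xy + tz`. -/
noncomputable abbrev pB (t : R) : MvPolynomial (Fin 3) R :=
  MvPolynomial.X 0 * MvPolynomial.X 1 + MvPolynomial.C t * MvPolynomial.X 2

theorem hA [IsLocalRing R] {t : R} (ht : IsLocalRing.residue R t = 0) :
    IsLocalRing.residue R (MvPolynomial.constantCoeff (pA R t)) = 0 := by
  rw [pA, map_sub, map_mul, MvPolynomial.constantCoeff_X, zero_mul, MvPolynomial.constantCoeff_C, zero_sub,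
    map_neg, ht, neg_zero]

theorem hB [IsLocalRing R] (t : R) : IsLocalRing.residue R (MvPolynomial.constantCoeff (pB R t)) = 0 := by
  rw [pB, map_add, map_mul, map_mul, MvPolynomial.constantCoeff_X, MvPolynomial.constantCoeff_X,
    MvPolynomial.constantCoeff_X, zero_mul, mul_zero, add_zero, map_zero]

/-- The models. -/
noncomputable def MM (t : R) : ℕ → Scheme.{u}
  | 0 => Spec (CommRingCat.of R)
  | 1 => Mod (Fin 2) R (pA R t)
  | 2 => Mod (Fin 3) R (pB R t)
  | _ + 3 => Spec (CommRingCat.of R)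

/-- Their structure morphisms. -/
noncomputable def gg (t : R) : ∀ a, MM R t a ⟶ Spec (CommRingCat.of R)
  | 0 => 𝟙 _
  | 1 => toBase _ R (pA R t)
  | 2 => toBase _ R (pB R t)
  | _ + 3 => 𝟙 _

variable [HenselianLocalRing R] [IsSepClosed (IsLocalRing.ResidueField R)]

/-- Their origins. -/
noncomputable def oo (t : R) (ht : IsLocalRing.residue R t = 0) :
    ∀ a, Spec (CommRingCat.of (IsLocalRing.ResidueField R)) ⟶ MM R t a
  | 0 => cpt R
  | 1 => orig _ R (pA R t) (hA R ht)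
  | 2 => orig _ R (pB R t) (hB R t)
  | _ + 3 => cpt R

/-- The strata. -/
def DD {Y : Type u} [TopologicalSpace Y] (T1 T2 : Closeds Y) : ℕ → Closeds Y
  | 0 => ⊤
  | 1 => T1
  | 2 => T2
  | _ + 3 => ⊥

theorem closedImm_oo (t : R) (ht : IsLocalRing.residue R t = 0) (a : ℕ) : IsClosedImmersion (oo R t ht a) := by
  match a with
  | 0 => exact isClosedImmersion_cpt R
  | 1 => exact isClosedImmersion_orig _ R (pA R t) (hA R ht)
  | 2 => exact isClosedImmersion_orig _ R (pB R t) (hB R t)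
  | _ + 3 => exact isClosedImmersion_cpt R

theorem antitone_DD {Y : Type u} [TopologicalSpace Y] (T1 T2 : Closeds Y) (h : T2 ≤ T1) : Antitone (DD T1 T2) :=
  antitone_nat_of_succ_le fun n => by
    match n with
    | 0 => exact le_top
    | 1 => exact h
    | 2 => exact bot_le
    | _ + 3 => exact bot_le

variable {Ω : Type u} [Field Ω] [IsSepClosed Ω] (η : Spec (CommRingCat.of Ω) ⟶ Spec (CommRingCat.of R))
  (ℓ : ℕ) [Fact ℓ.Prime] (hℓ : IsUnit (ℓ : R)) (t : R) (ht : IsLocalRing.residue R t = 0)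

/-- Euler number of the model `xy = t`. -/
noncomputable def muA : ℝ := mu η ℓ (toBase _ R (pA R t)) (orig _ R (pA R t) (hA R ht))

/-- Euler number of the model `xy + tz = 0`. -/
noncomputable def muB : ℝ := mu η ℓ (toBase _ R (pB R t)) (orig _ R (pB R t) (hB R t))

variable {W : Scheme.{u}} (f : W ⟶ Spec (CommRingCat.of R)) [IsProper f]
  (T1 T2 : Closeds (pullback f (cpt R) : Scheme.{u})) (h12 : T2 ≤ T1)
  (g0 : Good (fun q => Ao η ℓ (𝟙 (Spec (CommRingCat.of R))) (cpt R) q))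
  (gA : Good (fun q => Ao η ℓ (toBase _ R (pA R t)) (orig _ R (pA R t) (hA R ht)) q))
  (gB : Good (fun q => Ao η ℓ (toBase _ R (pB R t)) (orig _ R (pB R t) (hB R t)) q))
  (c0 : ∀ x, x ∉ T1 → ∃ (V : Scheme.{u}) (v : V ⟶ W) (_ : IsOpenImmersion v), Smooth (v ≫ f) ∧
    pullback.fst f (cpt R) x ∈ Set.range v)
  (c1 : ∀ x ∈ T1, x ∉ T2 → ∃ (V : Scheme.{u}) (v : V ⟶ W) (_ : IsOpenImmersion v)
    (h : V ⟶ Mod (Fin 2) R (pA R t)) (_ : Smooth h), h ≫ toBase _ R (pA R t) = v ≫ f ∧
      pullback.fst f (cpt R) x ∈ Set.range v ∧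
      ∀ (y : V), ∀ z ∈ T1, v y = pullback.fst f (cpt R) z →
        ∀ s, Ideal.Quotient.mk (Ideal.span {pA R t}) (MvPolynomial.X s) ∈ (h y).asIdeal)
  (c2 : ∀ x ∈ T2, ∃ (V : Scheme.{u}) (v : V ⟶ W) (_ : IsOpenImmersion v)
    (h : V ⟶ Mod (Fin 3) R (pB R t)) (_ : Smooth h), h ≫ toBase _ R (pB R t) = v ≫ f ∧
      pullback.fst f (cpt R) x ∈ Set.range v ∧
      ∀ (y : V), ∀ z ∈ T2, v y = pullback.fst f (cpt R) z →
        ∀ s, Ideal.Quotient.mk (Ideal.span {pB R t}) (MvPolynomial.X s) ∈ (h y).asIdeal)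

theorem mem_range_cpt {W : Scheme.{u}} (f : W ⟶ Spec (CommRingCat.of R)) (z : (pullback f (cpt R) : Scheme.{u})) :
    f (pullback.fst f (cpt R) z) ∈ Set.range (cpt R) := by
  refine ⟨pullback.snd f (cpt R) z, ?_⟩
  rw [← Scheme.Hom.comp_apply, ← pullback.condition, Scheme.Hom.comp_apply]

include hℓ h12 g0 gA gB c0 c1 c2 in
/-- The nearby cycle formula for the three models. -/
theorem three : GoodE (pullback f η) (EtCoh.const (pullback f η) (ZMod ℓ)) ∧
    ec ℓ (pullback f η) = (ec ℓ (pullback f (cpt R)) - χ ℓ T1) + muA R η ℓ t ht * (χ ℓ T1 - χ ℓ T2) +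
      muB R η ℓ t * χ ℓ T2 := by
  have i1 := noetherian_closedFibre R f
  have i2 := closedImm_oo R t ht
  obtain ⟨h1, h2⟩ := NcMain.main R η ℓ hℓ f
    (goodE_closedFibre R f ℓ (Fact.out : ℓ.Prime).pos) 3 (DD T1 T2) (antitone_DD T1 T2 h12) rfl rfl
    (MM R t) (gg R t) (oo R t ht)
    (fun a => by
      match a with
      | 0 => exact g0
      | 1 => exact gA
      | 2 => exact gB
      | _ + 3 => exact g0)
    (fun a ha x hx hx' => by
      match a, ha, hx, hx' with
      | 0, _, _, hx' =>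
        obtain ⟨V, v, i3, i4, hv⟩ := c0 x hx'
        exact ⟨V, v, i3, v ≫ f, i4, Category.comp_id _, hv, fun y z _ _ hyz => by
          have h3 : (v ≫ f) y ∈ Set.range (cpt R) := by
            rw [Scheme.Hom.comp_apply, hyz]
            exact mem_range_cpt R f z
          exact h3⟩
      | 1, _, hx, hx' =>
        obtain ⟨V, v, i3, h, i4, hw, hv, hy⟩ := c1 x hx hx'
        exact ⟨V, v, i3, h, i4, hw, hv, fun y z hz _ hyz => by
          refine mem_range_orig' _ R (pA R t) (hA R ht) (h y) (hy y z hz hyz) ?_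
          rw [← Scheme.Hom.comp_apply, hw, Scheme.Hom.comp_apply, hyz]
          exact mem_range_cpt R f z⟩
      | 2, _, hx, _ =>
        obtain ⟨V, v, i3, h, i4, hw, hv, hy⟩ := c2 x hx
        exact ⟨V, v, i3, h, i4, hw, hv, fun y z hz _ hyz => by
          refine mem_range_orig' _ R (pB R t) (hB R t) (h y) (hy y z hz hyz) ?_
          rw [← Scheme.Hom.comp_apply, hw, Scheme.Hom.comp_apply, hyz]
          exact mem_range_cpt R f z⟩
      | n + 3, h, _, _ => omega)
  refine ⟨h1, ?_⟩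
  rw [h2, Finset.sum_range_succ, Finset.sum_range_succ, Finset.sum_range_one]
  have e0 : mu η ℓ (gg R t 0) (oo R t ht 0) = 1 := mu_unit R η ℓ hℓ g0
  have e1 : mu η ℓ (gg R t 1) (oo R t ht 1) = muA R η ℓ t ht := rfl
  have e2 : mu η ℓ (gg R t 2) (oo R t ht 2) = muB R η ℓ t := rfl
  have e3 : χ ℓ (DD T1 T2 0) = ec ℓ (pullback f (cpt R)) := χ_top _ ℓ
  have e4 : χ ℓ (DD T1 T2 (2 + 1)) = 0 := χ_bot _ ℓ
  rw [e0, e1, e2, e3, e4, one_mul, sub_zero]
  rfl

end three

end Groth.Agent.Lefpen.H714.NcThree
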