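import Mathlib.Algebra.Exact.Basic
import Mathlib.Analysis.SpecialFunctions.Log.Basic
import Mathlib.GroupTheory.QuotientGroup.Basic
import Mathlib.GroupTheory.Index
import Mathlib.SetTheory.Cardinal.Finite
import Mathlib.Algebra.BigOperators.Finprod

/-!
# Real-valued Euler characteristics of bounded families of finite abelian groups

`lg M = log (card M)`, `chi A = ∑ᶠ n : ℕ, (-1)^n * lg (A n)`, additivity in long exact sequences.
-/

set_option autoImplicit false

namespace Groth.Agent.Lefpen.H714.EulerAlg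

/-- `log` of the number of elements. -/
noncomputable def lg (M : Type*) : ℝ := Real.log (Nat.card M)

theorem lg_congr {M N : Type*} (e : M ≃ N) : lg M = lg N := by
  rw [lg, lg, Nat.card_congr e]

theorem lg_of_subsingleton (M : Type*) [Subsingleton M] : lg M = 0 := by
  rw [lg]
  rcases isEmpty_or_nonempty M with h | h
  · simp
  · rw [Nat.card_of_subsingleton (Classical.arbitrary M)]
    simp

/-- `log` of the order of the image. -/
noncomputable def rk {G H : Type*} [AddGroup G] [AddGroup H] (φ : G →+ H) : ℝ := lg φ.range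

theorem lg_eq_ker_add_rk {G H : Type*} [AddGroup G] [AddGroup H] (φ : G →+ H) [Finite G] :
    lg G = lg φ.ker + rk φ := by
  have h1 : Nat.card G = Nat.card (G ⧸ φ.ker) * Nat.card φ.ker :=
    AddSubgroup.card_eq_card_quotient_mul_card_addSubgroup φ.ker
  have h2 : Nat.card (G ⧸ φ.ker) = Nat.card φ.range :=
    Nat.card_congr (QuotientAddGroup.quotientKerEquivRange φ).toEquiv
  rw [h2] at h1
  have h3 : Nat.card φ.range ≠ 0 := by
    have : Finite φ.range := Set.finite_range φ
    exact Nat.card_pos.ne'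
  have h4 : Nat.card φ.ker ≠ 0 := Nat.card_pos.ne'
  rw [lg, lg, rk, lg, h1, Nat.cast_mul, Real.log_mul (by exact_mod_cast h3) (by exact_mod_cast h4)]
  ring

theorem lg_eq_rk_add_rk {G H K : Type*} [AddGroup G] [AddGroup H] [AddGroup K] (φ : G →+ H)
    (ψ : H →+ K) (h : Function.Exact φ ψ) [Finite H] : lg H = rk φ + rk ψ := by
  have h1 : ψ.ker = φ.range := by
    ext x
    rw [AddMonoidHom.mem_ker, AddMonoidHom.mem_range]
    exact (h x).trans (by simp [Set.mem_range])
  rw [lg_eq_ker_add_rk ψ, h1, rk, rk]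

theorem lg_eq_rk_of_injective {G H : Type*} [AddGroup G] [AddGroup H] (φ : G →+ H)
    (h : Function.Injective φ) : lg G = rk φ :=
  lg_congr (Equiv.ofInjective φ h)

theorem rk_of_subsingleton_source {G H : Type*} [AddGroup G] [AddGroup H] (φ : G →+ H) [Subsingleton G] :
    rk φ = 0 := by
  have : Subsingleton φ.range := by
    refine ⟨fun ⟨a, x, hx⟩ ⟨b, y, hy⟩ => ?_⟩
    apply Subtype.ext
    change a = b
    rw [← hx, ← hy, Subsingleton.elim x y]
  exact lg_of_subsingleton _

theorem finite_of_exact {G H K : Type*} [AddGroup G] [AddGroup H] [AddGroup K] (φ : G →+ H)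
    (ψ : H →+ K) (h : Function.Exact φ ψ) [Finite G] [Finite K] : Finite H := by
  have h1 : Finite ψ.ker := by
    refine Finite.of_surjective (fun x : G => (⟨φ x, (h _).2 ⟨x, rfl⟩⟩ : ψ.ker)) ?_
    rintro ⟨y, hy⟩
    obtain ⟨x, hx⟩ := (h y).1 hy
    exact ⟨x, Subtype.ext hx⟩
  have h2 : Finite (H ⧸ ψ.ker) :=
    Finite.of_equiv _ (QuotientAddGroup.quotientKerEquivRange ψ).symm.toEquiv
  exact Finite.of_equiv _ (AddSubgroup.addGroupEquivQuotientProdAddSubgroup (s := ψ.ker)).symm

theorem subsingleton_of_exact {G H K : Type*} [AddGroup G] [AddGroup H] [AddGroup K] (φ : G →+ H)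
    (ψ : H →+ K) (h : Function.Exact φ ψ) [Subsingleton G] [Subsingleton K] : Subsingleton H := by
  refine ⟨fun a b => ?_⟩
  have key : ∀ x : H, x = 0 := by
    intro x
    obtain ⟨y, hy⟩ := (h x).1 (Subsingleton.elim _ _)
    rw [← hy, Subsingleton.elim y 0, map_zero]
  rw [key a, key b]

/-- All groups are finite, almost all are trivial. -/
structure Good (A : ℕ → Type*) : Prop where
  fin : ∀ n, Finite (A n)
  bdd : ∃ b : ℕ, ∀ n, b < n → Subsingleton (A n)

/-- The Euler characteristic. -/
noncomputable def chi (A : ℕ → Type*) : ℝ := ∑ᶠ n : ℕ, (-1 : ℝ) ^ n * lg (A n)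

theorem chi_eq_sum {A : ℕ → Type*} (b : ℕ) (h : ∀ n, b < n → Subsingleton (A n)) :
    chi A = ∑ n ∈ Finset.range (b + 1), (-1 : ℝ) ^ n * lg (A n) := by
  rw [chi]
  refine finsum_eq_sum_of_support_subset _ fun n hn => ?_
  rw [Function.mem_support] at hn
  by_contra hc
  have hc' : ¬ n < b + 1 := fun hh => hc (by simpa using hh)
  have := h n (by omega)
  exact hn (by rw [lg_of_subsingleton, mul_zero])

theorem chi_congr {A B : ℕ → Type*} (e : ∀ n, Nonempty (A n ≃ B n)) : chi A = chi B := by
  rw [chi, chi]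
  exact finsum_congr fun n => by rw [lg_congr (e n).some]

theorem Good.congr {A B : ℕ → Type*} (e : ∀ n, Nonempty (A n ≃ B n)) (h : Good A) : Good B where
  fin n := by
    have := h.fin n
    exact Finite.of_equiv _ (e n).some
  bdd := by
    obtain ⟨b, hb⟩ := h.bdd
    refine ⟨b, fun n hn => ?_⟩
    have := hb n hn
    exact (e n).some.symm.subsingleton

theorem chi_of_subsingleton {A : ℕ → Type*} (h : ∀ n, Subsingleton (A n)) : chi A = 0 := by
  rw [chi]
  refine (finsum_congr fun n => ?_).trans finsum_zero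
  have := h n
  rw [lg_of_subsingleton, mul_zero]

theorem good_of_subsingleton {A : ℕ → Type*} (h : ∀ n, Subsingleton (A n)) : Good A where
  fin n := by have := h n; infer_instance
  bdd := ⟨0, fun n _ => h n⟩

section LES

variable {A B C : ℕ → Type*} [∀ n, AddGroup (A n)] [∀ n, AddGroup (B n)] [∀ n, AddGroup (C n)]
  (f : ∀ n, A n →+ B n) (g : ∀ n, B n →+ C n) (h : ∀ n, C n →+ A (n + 1))
  (h0 : Function.Injective (f 0)) (h1 : ∀ n, Function.Exact (f n) (g n))
  (h2 : ∀ n, Function.Exact (g n) (h n)) (h3 : ∀ n, Function.Exact (h n) (f (n + 1)))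

include f g h1 in
theorem good_mid (hA : Good A) (hC : Good C) : Good B where
  fin n := by
    have := hA.fin n
    have := hC.fin n
    exact finite_of_exact _ _ (h1 n)
  bdd := by
    obtain ⟨a, ha⟩ := hA.bdd
    obtain ⟨c, hc⟩ := hC.bdd
    refine ⟨max a c, fun n hn => ?_⟩
    have := ha n (lt_of_le_of_lt (le_max_left _ _) hn)
    have := hc n (lt_of_le_of_lt (le_max_right _ _) hn)
    exact subsingleton_of_exact _ _ (h1 n)

include f h h0 h3 in
theorem good_left (hB : Good B) (hC : Good C) : Good A where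
  fin n := by
    match n with
    | 0 =>
      have := hB.fin 0
      exact Finite.of_injective _ h0
    | n + 1 =>
      have := hB.fin (n + 1)
      have := hC.fin n
      exact finite_of_exact _ _ (h3 n)
  bdd := by
    obtain ⟨a, ha⟩ := hB.bdd
    obtain ⟨c, hc⟩ := hC.bdd
    refine ⟨max a c + 1, fun n hn => ?_⟩
    match n with
    | 0 => omega
    | n + 1 =>
      have h5 := le_max_left a c
      have h6 := le_max_right a c
      have := ha (n + 1) (by omega)
      have := hc n (by omega)
      exact subsingleton_of_exact _ _ (h3 n)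

include g h h2 in
theorem good_right (hA : Good A) (hB : Good B) : Good C where
  fin n := by
    have := hB.fin n
    have := hA.fin (n + 1)
    exact finite_of_exact _ _ (h2 n)
  bdd := by
    obtain ⟨a, ha⟩ := hA.bdd
    obtain ⟨c, hc⟩ := hB.bdd
    refine ⟨max a c, fun n hn => ?_⟩
    have := ha (n + 1) (by have := le_max_left a c; omega)
    have := hc n (by have := le_max_right a c; omega)
    exact subsingleton_of_exact _ _ (h2 n)

include h0 h1 h2 h3 in
theorem chi_add (hA : Good A) (hB : Good B) (hC : Good C) : chi B = chi A + chi C := by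
  obtain ⟨a, ha⟩ := hA.bdd
  obtain ⟨b, hb⟩ := hB.bdd
  obtain ⟨c, hc⟩ := hC.bdd
  let N := max a (max b c) + 1
  have hN1 : a < N := by have := le_max_left a (max b c); omega
  have hN2 : b < N := by
    have := le_max_right a (max b c); have := le_max_left b c; omega
  have hN3 : c < N := by
    have := le_max_right a (max b c); have := le_max_right b c; omega
  rw [chi_eq_sum N (fun n hn => hb n (by omega)), chi_eq_sum N (fun n hn => ha n (by omega)),
    chi_eq_sum N (fun n hn => hc n (by omega))]
  have kA0 : lg (A 0) = rk (f 0) := lg_eq_rk_of_injective _ h0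
  have kA : ∀ n, lg (A (n + 1)) = rk (h n) + rk (f (n + 1)) := fun n => by
    have := hA.fin (n + 1)
    exact lg_eq_rk_add_rk _ _ (h3 n)
  have kB : ∀ n, lg (B n) = rk (f n) + rk (g n) := fun n => by
    have := hB.fin n
    exact lg_eq_rk_add_rk _ _ (h1 n)
  have kC : ∀ n, lg (C n) = rk (g n) + rk (h n) := fun n => by
    have := hC.fin n
    exact lg_eq_rk_add_rk _ _ (h2 n)
  have key : ∀ M : ℕ, ∑ n ∈ Finset.range (M + 1), (-1 : ℝ) ^ n * lg (B n) =
      ∑ n ∈ Finset.range (M + 1), (-1 : ℝ) ^ n * lg (A n) +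
        ∑ n ∈ Finset.range (M + 1), (-1 : ℝ) ^ n * lg (C n) - (-1) ^ M * rk (h M) := by
    intro M
    induction M with
    | zero =>
      simp [kA0, kB, kC]
      ring
    | succ M ih =>
      rw [Finset.sum_range_succ, ih, Finset.sum_range_succ _ (M + 1), Finset.sum_range_succ _ (M + 1),
        kA, kB, kC]
      ring
  rw [key N]
  have : Subsingleton (C N) := hc N hN3
  rw [rk_of_subsingleton_source (h N)]
  ring

end LES

/-- Shift by `m`: if `A n` is trivial for `n < m` and `A (i + m) ≃ B i` then `chi A = (-1)^m chi B`. -/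
theorem chi_shift {A B : ℕ → Type*} (m : ℕ) (h0 : ∀ n, n < m → Subsingleton (A n))
    (e : ∀ i, Nonempty (A (i + m) ≃ B i)) (hB : Good B) : chi A = (-1) ^ m * chi B := by
  obtain ⟨b, hb⟩ := hB.bdd
  have hA : ∀ n, b + m < n → Subsingleton (A n) := fun n hn => by
    have := hb (n - m) (by omega)
    have h1 := (e (n - m)).some.subsingleton
    rwa [Nat.sub_add_cancel (by omega)] at h1
  rw [chi_eq_sum (b + m) hA, chi_eq_sum b hb]
  have h1 : b + m + 1 = m + (b + 1) := by omega
  rw [h1, Finset.sum_range_add, Finset.mul_sum]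
  have h2 : ∑ x ∈ Finset.range m, (-1 : ℝ) ^ x * lg (A x) = 0 := by
    refine Finset.sum_eq_zero fun x hx => ?_
    have := h0 x (Finset.mem_range.1 hx)
    rw [lg_of_subsingleton, mul_zero]
  rw [h2, zero_add]
  refine Finset.sum_congr rfl fun x _ => ?_
  have h3 : lg (A (m + x)) = lg (B x) := by
    rw [add_comm m x]
    exact lg_congr (e x).some
  rw [h3, pow_add]
  ring

theorem good_shift {A B : ℕ → Type*} (m : ℕ) (h0 : ∀ n, n < m → Subsingleton (A n))
    (e : ∀ i, Nonempty (A (i + m) ≃ B i)) (hB : Good B) : Good A where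
  fin n := by
    rcases lt_or_ge n m with h | h
    · have := h0 n h
      infer_instance
    · obtain ⟨i, rfl⟩ : ∃ i, n = i + m := ⟨n - m, by omega⟩
      have := hB.fin i
      exact Finite.of_equiv _ (e i).some.symm
  bdd := by
    obtain ⟨b, hb⟩ := hB.bdd
    refine ⟨b + m, fun n hn => ?_⟩
    obtain ⟨i, rfl⟩ : ∃ i, n = i + m := ⟨n - m, by omega⟩
    have := hb i (by omega)
    exact (e i).some.subsingleton

end Groth.Agent.Lefpen.H714.EulerAlg
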