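import Groth.Agent.Lefpen.H714.EulerEt
import Mathlib.LinearAlgebra.FreeModule.Finite.Basic
import Mathlib.Algebra.Module.ZMod
import Mathlib.Algebra.Field.ZMod
import Mathlib.LinearAlgebra.Dimension.Free

/-!
# Euler characteristics of constant sheaves with value a finite group killed by a prime
-/

set_option autoImplicit false
set_option linter.auxLemma false
universe u
open CategoryTheory CategoryTheory.Limits CategoryTheory.Abelian AlgebraicGeometry Opposite
open Groth.Agent.Etrest Groth.Agent.Sga4B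

namespace Groth.Agent.Lefpen.H714.EulerConst

open EulerAlg EulerEt

attribute [local instance 10000] EtCoh.H._proof_1 EtCoh.Rpush._proof_2
attribute [local instance 10000] TwoRowEt.he TwoRowEt.hinj TwoRowEt.hPullAdd TwoRowEt.hPullPFL
  TwoRowEt.hPullPFC TwoRowEt.hasKInj

/-- The constant sheaf functor. -/
noncomputable abbrev cst (X : Scheme.{u}) : AddCommGrpCat.{u + 1} ⥤ EtCoh.Ab X :=
  constantSheaf X.smallEtaleTopology AddCommGrpCat.{u + 1}

instance gsec_additive (X : Scheme.{u}) : (EtCore.gsec X).Additive where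
  map_add := rfl

instance cst_additive (X : Scheme.{u}) : (cst X).Additive :=
  (EtCore.constAdj X).left_adjoint_additive

variable (X : Scheme.{u})

theorem prod (G H : Type (u + 1)) [AddCommGroup G] [AddCommGroup H]
    (hG : GoodE X ((cst X).obj (AddCommGrpCat.of G))) (hH : GoodE X ((cst X).obj (AddCommGrpCat.of H))) :
    GoodE X ((cst X).obj (AddCommGrpCat.of (G × H))) ∧
      e X ((cst X).obj (AddCommGrpCat.of (G × H))) =
        e X ((cst X).obj (AddCommGrpCat.of G)) + e X ((cst X).obj (AddCommGrpCat.of H)) := by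
  let S : ShortComplex AddCommGrpCat.{u + 1} := ShortComplex.mk
    (AddCommGrpCat.ofHom (AddMonoidHom.inl G H)) (AddCommGrpCat.ofHom (AddMonoidHom.snd G H)) (by
      ext x
      rfl)
  let s : S.Splitting :=
    { r := AddCommGrpCat.ofHom (AddMonoidHom.fst G H)
      s := AddCommGrpCat.ofHom (AddMonoidHom.inr G H)
      f_r := by ext x; rfl
      s_g := by ext x; rfl
      id := by
        refine AddCommGrpCat.hom_ext (AddMonoidHom.ext fun x => ?_)
        change ((x : G × H).1, (0 : H)) + ((0 : G), (x : G × H).2) = x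
        simp }
  have h : (S.map (cst X)).ShortExact := (s.map (cst X)).shortExact
  have h1 : GoodE X (S.map (cst X)).X₁ := hG
  have h3 : GoodE X (S.map (cst X)).X₃ := hH
  have h2 : GoodE X (S.map (cst X)).X₂ := good_mid h h1 h3
  have h4 : e X (S.map (cst X)).X₂ = e X (S.map (cst X)).X₁ + e X (S.map (cst X)).X₃ := e_add h h1 h2 h3
  exact ⟨h2, h4⟩

/-- isomorphic groups give isomorphic constant sheaves -/
theorem nonempty_cst_iso {G H : Type (u + 1)} [AddCommGroup G] [AddCommGroup H] (e : G ≃+ H) :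
    Nonempty ((cst X).obj (AddCommGrpCat.of G) ≅ (cst X).obj (AddCommGrpCat.of H)) :=
  ⟨(cst X).mapIso (AddEquiv.toAddCommGrpIso e)⟩

theorem zero (G : Type (u + 1)) [AddCommGroup G] [Subsingleton G] :
    GoodE X ((cst X).obj (AddCommGrpCat.of G)) ∧ e X ((cst X).obj (AddCommGrpCat.of G)) = 0 := by
  have h1 : IsZero (AddCommGrpCat.of G) := AddCommGrpCat.isZero_of_subsingleton _
  have h2 : IsZero ((cst X).obj (AddCommGrpCat.of G)) := (cst X).map_isZero h1
  have h3 : ∀ n, Subsingleton (EtCoh.H X ((cst X).obj (AddCommGrpCat.of G)) n) := fun n =>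
    ⟨fun x y => by
      have key : ∀ z : Ext.{u + 1} (EtCoh.const X ℤ) ((cst X).obj (AddCommGrpCat.of G)) n, z = 0 :=
        fun z => by
          rw [← Ext.comp_mk₀_id z, h2.eq_of_src (𝟙 _) 0, Ext.mk₀_zero, Ext.comp_zero]
      exact (key x).trans (key y).symm⟩
  exact ⟨good_of_subsingleton h3, chi_of_subsingleton h3⟩

theorem pow (ℓ : ℕ) (h : GoodE X (EtCoh.const X (ZMod ℓ))) (r : ℕ) :
    GoodE X ((cst X).obj (AddCommGrpCat.of (Fin r → ULift.{u + 1} (ZMod ℓ)))) ∧
      e X ((cst X).obj (AddCommGrpCat.of (Fin r → ULift.{u + 1} (ZMod ℓ)))) = r * ec ℓ X := by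
  induction r with
  | zero =>
    obtain ⟨h1, h2⟩ := zero X (Fin 0 → ULift.{u + 1} (ZMod ℓ))
    exact ⟨h1, by rw [h2]; simp⟩
  | succ r ih =>
    obtain ⟨h1, h2⟩ := prod X (ULift.{u + 1} (ZMod ℓ)) (Fin r → ULift.{u + 1} (ZMod ℓ)) h ih.1
    let f : (ULift.{u + 1} (ZMod ℓ) × (Fin r → ULift.{u + 1} (ZMod ℓ))) ≃+
        (Fin (r + 1) → ULift.{u + 1} (ZMod ℓ)) :=
      { Fin.consEquiv (fun _ => ULift.{u + 1} (ZMod ℓ)) with
        map_add' := fun x y => by
          funext j
          refine Fin.cases ?_ (fun j => ?_) j <;> rfl }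
    obtain ⟨j⟩ := nonempty_cst_iso X f
    refine ⟨h1.iso j, ?_⟩
    rw [← e_iso j, h2, ih.2]
    change ec ℓ X + _ = _
    push_cast
    ring

theorem exists_basis_field (K : Type) [Field K] [Finite K] (G : Type (u + 1)) [AddCommGroup G] [Finite G]
    [Module K G] : ∃ r : ℕ, Nonempty ((Fin r → ULift.{u + 1} K) ≃+ G) ∧ Nat.card G = Nat.card K ^ r := by
  have hf : Module.Finite K G := Module.Finite.of_finite
  let b := Module.finBasis K G
  refine ⟨Module.finrank K G, ⟨?_⟩, ?_⟩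
  · exact (AddEquiv.piCongrRight fun _ => AddEquiv.ulift).trans b.equivFun.symm.toAddEquiv
  · rw [Nat.card_congr b.equivFun.toEquiv, Nat.card_fun, Nat.card_fin]

theorem exists_basis (ℓ : ℕ) [Fact ℓ.Prime] (G : Type (u + 1)) [AddCommGroup G] [Finite G]
    (hG : ∀ x : G, ℓ • x = 0) :
    ∃ r : ℕ, Nonempty ((Fin r → ULift.{u + 1} (ZMod ℓ)) ≃+ G) ∧ Nat.card G = ℓ ^ r := by
  have := AddCommGroup.zmodModule hG
  have : NeZero ℓ := ⟨(Fact.out : ℓ.Prime).ne_zero⟩
  have : Finite (ZMod ℓ) := inferInstance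
  obtain ⟨r, h1, h2⟩ := exists_basis_field (ZMod ℓ) G
  exact ⟨r, h1, by rw [h2, Nat.card_zmod]⟩

/-- The main statement. -/
theorem main (ℓ : ℕ) [Fact ℓ.Prime] (h : GoodE X (EtCoh.const X (ZMod ℓ))) (G : Type (u + 1)) [AddCommGroup G]
    [Finite G] (hG : ∀ x : G, ℓ • x = 0) :
    GoodE X ((cst X).obj (AddCommGrpCat.of G)) ∧
      e X ((cst X).obj (AddCommGrpCat.of G)) = lg G / Real.log ℓ * ec ℓ X := by
  obtain ⟨r, ⟨f⟩, h3⟩ := exists_basis ℓ G hG
  obtain ⟨j⟩ := nonempty_cst_iso X f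
  obtain ⟨h1, h2⟩ := pow X ℓ h r
  refine ⟨h1.iso j, ?_⟩
  rw [← e_iso j, h2]
  have h4 : Real.log ℓ ≠ 0 := Real.log_ne_zero_of_pos_of_ne_one (by exact_mod_cast (Fact.out : ℓ.Prime).pos)
    (by exact_mod_cast (Fact.out : ℓ.Prime).one_lt.ne')
  unfold lg
  rw [h3]
  push_cast
  rw [Real.log_pow, mul_div_assoc, div_self h4, mul_one]

end Groth.Agent.Lefpen.H714.EulerConst
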