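import Groth.Agent.Lefpen.H714.EulerAlg
import Mathlib.Algebra.Homology.DerivedCategory.Ext.ExactSequences

/-!
# Additivity of the Euler characteristic `n ↦ Ext^n(Z, -)` in short exact sequences
-/

set_option autoImplicit false
universe w v u
open CategoryTheory CategoryTheory.Limits CategoryTheory.Abelian

namespace Groth.Agent.Lefpen.H714.EulerExt

open EulerAlg

variable {B : Type u} [Category.{v} B] [Abelian B] [HasExt.{w} B] (Z : B)

/-- `Ext^n(Z, F)` as a family. -/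
abbrev EX (F : B) (n : ℕ) : Type w := Ext.{w} Z F n

noncomputable def pf {F G : B} (f : F ⟶ G) (n : ℕ) : EX.{w} Z F n →+ EX.{w} Z G n :=
  (Ext.mk₀ f).postcomp Z (add_zero n)

noncomputable def pd {S : ShortComplex B} (hS : S.ShortExact) (n : ℕ) :
    EX.{w} Z S.X₃ n →+ EX.{w} Z S.X₁ (n + 1) :=
  hS.extClass.postcomp Z rfl

variable {S : ShortComplex B} (hS : S.ShortExact)

include hS in
theorem ex12 (n : ℕ) : Function.Exact (pf.{w} Z S.f n) (pf.{w} Z S.g n) := by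
  intro x
  constructor
  · intro hx
    exact Ext.covariant_sequence_exact₂ Z hS x hx
  · rintro ⟨y, rfl⟩
    change (y.comp (Ext.mk₀ S.f) (add_zero n)).comp (Ext.mk₀ S.g) (add_zero n) = 0
    rw [Ext.comp_assoc_of_third_deg_zero, Ext.mk₀_comp_mk₀, S.zero, Ext.mk₀_zero, Ext.comp_zero]

theorem ex23 (n : ℕ) : Function.Exact (pf.{w} Z S.g n) (pd.{w} Z hS n) := by
  intro x
  constructor
  · intro hx
    exact Ext.covariant_sequence_exact₃ Z hS x rfl hx
  · rintro ⟨y, rfl⟩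
    change (y.comp (Ext.mk₀ S.g) (add_zero n)).comp hS.extClass rfl = 0
    rw [Ext.comp_assoc_of_second_deg_zero, hS.comp_extClass, Ext.comp_zero]

theorem ex31 (n : ℕ) : Function.Exact (pd.{w} Z hS n) (pf.{w} Z S.f (n + 1)) := by
  intro x
  constructor
  · intro hx
    exact Ext.covariant_sequence_exact₁ Z hS x hx rfl
  · rintro ⟨y, rfl⟩
    change (y.comp hS.extClass rfl).comp (Ext.mk₀ S.f) (add_zero (n + 1)) = 0
    rw [Ext.comp_assoc_of_third_deg_zero, hS.extClass_comp, Ext.comp_zero]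

include hS in
theorem inj0 : Function.Injective (pf.{w} Z S.f 0) := by
  have := hS.mono_f
  rw [injective_iff_map_eq_zero]
  intro x hx
  obtain ⟨x, rfl⟩ := Ext.homEquiv₀.symm.surjective x
  have h1 : (Ext.mk₀ x).comp (Ext.mk₀ S.f) (add_zero 0) = 0 := hx
  rw [Ext.mk₀_comp_mk₀] at h1
  have h2 : x ≫ S.f = 0 := by
    have := (Ext.mk₀_eq_zero_iff (x ≫ S.f)).1 h1
    exact this
  have h3 : x = 0 := by rw [← cancel_mono S.f, h2, zero_comp]
  rw [h3]
  exact Ext.mk₀_zero _ _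

include hS

theorem good_mid (hA : Good (EX.{w} Z S.X₁)) (hC : Good (EX.{w} Z S.X₃)) : Good (EX.{w} Z S.X₂) :=
  EulerAlg.good_mid (pf.{w} Z S.f) (pf.{w} Z S.g) (ex12 Z hS) hA hC

theorem good_left (hB : Good (EX.{w} Z S.X₂)) (hC : Good (EX.{w} Z S.X₃)) : Good (EX.{w} Z S.X₁) :=
  EulerAlg.good_left (pf.{w} Z S.f) (pd.{w} Z hS) (inj0 Z hS) (ex31 Z hS) hB hC

theorem good_right (hA : Good (EX.{w} Z S.X₁)) (hB : Good (EX.{w} Z S.X₂)) : Good (EX.{w} Z S.X₃) :=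
  EulerAlg.good_right (pf.{w} Z S.g) (pd.{w} Z hS) (ex23 Z hS) hA hB

theorem chi_add (hA : Good (EX.{w} Z S.X₁)) (hB : Good (EX.{w} Z S.X₂)) (hC : Good (EX.{w} Z S.X₃)) :
    chi (EX.{w} Z S.X₂) = chi (EX.{w} Z S.X₁) + chi (EX.{w} Z S.X₃) :=
  EulerAlg.chi_add (pf.{w} Z S.f) (pf.{w} Z S.g) (pd.{w} Z hS) (inj0 Z hS) (ex12 Z hS) (ex23 Z hS)
    (ex31 Z hS) hA hB hC

omit hS in
theorem nonempty_equiv_of_iso {F G : B} (e : F ≅ G) (n : ℕ) : Nonempty (EX.{w} Z F n ≃ EX.{w} Z G n) := by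
  refine ⟨⟨fun x => x.comp (Ext.mk₀ e.hom) (add_zero n), fun x => x.comp (Ext.mk₀ e.inv) (add_zero n), ?_, ?_⟩⟩
  · intro x
    simp only
    rw [Ext.comp_assoc_of_third_deg_zero, Ext.mk₀_comp_mk₀, e.hom_inv_id, Ext.comp_mk₀_id]
  · intro x
    simp only
    rw [Ext.comp_assoc_of_third_deg_zero, Ext.mk₀_comp_mk₀, e.inv_hom_id, Ext.comp_mk₀_id]

end Groth.Agent.Lefpen.H714.EulerExt
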