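import Groth.Agent.Lefpen.H714.EulerD
import Groth.Agent.Lefpen.H714.EulerExt
import Groth.Agent.Sga4B.TwoRowEt

/-!
# Euler characteristics of abelian etale sheaves

`e X F = ∑ (-1)^n log #H^n(X, F)` (real valued), `GoodE X F` : all `H^n(X, F)` are finite and almost all vanish.
* `e_congr`, additivity `e_add`, `good_left/mid/right`;
* `leray`: if the `R^q f_* G` are good and vanish for `q > N`, then `G` is good and
  `e X G = ∑_{q ≤ N} (-1)^q e Y (R^q f_* G)`.
* `ec ℓ X = e X (Z/ℓ)`.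
-/

set_option autoImplicit false
set_option linter.auxLemma false
universe w w' v v' u u'
open CategoryTheory CategoryTheory.Limits CategoryTheory.Abelian AlgebraicGeometry Opposite
open Groth.Agent.Etrest Groth.Agent.Sga4B

namespace Groth.Agent.Lefpen.H714.EulerEt

open EulerAlg EulerD EulerExt

section Abstract

attribute [local instance] HasDerivedCategory.standard

variable {A : Type u} [Category.{v} A] [Abelian A] {B : Type u'} [Category.{v'} B] [Abelian B]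
  [HasExt.{w} A] [HasExt.{w'} B] [RDer3.HasKInj A] [EnoughInjectives A] [HasInjectiveResolutions A]
  {L : B ⥤ A} [L.Additive] [PreservesFiniteLimits L] [PreservesFiniteColimits L]
  {F : A ⥤ B} [F.Additive] (adj : L ⊣ F)

include adj in
/-- The Leray Euler characteristic formula, for `Ext`. -/
theorem leray_ext (N : ℕ) (Z : B) (G : A)
    (h1 : ∀ q, Good (EX.{w'} Z ((F.rightDerived q).obj G)))
    (h2 : ∀ q, N < q → ∀ p, Subsingleton (EX.{w'} Z ((F.rightDerived q).obj G) p)) :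
    Good (EX.{w} (L.obj Z) G) ∧
      chi (EX.{w} (L.obj Z) G) =
        ∑ q ∈ Finset.range (N + 1), (-1 : ℝ) ^ q * chi (EX.{w'} Z ((F.rightDerived q).obj G)) := by
  let K := (RDer3.TR F).obj ((DerivedCategory.singleFunctor A 0).obj G)
  have hK : K.IsGE ((0 : ℕ) : ℤ) := RDer3.TR_isGE F ((DerivedCategory.singleFunctor A 0).obj G) 0
  have e0 : ∀ q p : ℕ, Nonempty (EX.{w'} Z ((F.rightDerived q).obj G) p ≃ row.{w'} Z K q p) := fun q p =>
    nonempty_equiv_of_iso Z ((RDer3.HTRsingle F q).app G).symm p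
  obtain ⟨a, b⟩ := EulerD.main.{w'} N Z (N + 1) 0 (by omega) K hK (fun q _ => (h1 q).congr (e0 q))
    (fun q hq p => by
      have := h2 q hq p
      exact (e0 q p).some.symm.subsingleton)
  have e1 : ∀ n, Nonempty (HD ((DerivedCategory.singleFunctor B 0).obj Z) K n ≃ EX.{w} (L.obj Z) G n) :=
    fun n => ⟨(AdjExt.T (RDer4.dAdj adj) Z G n).symm.toEquiv⟩
  refine ⟨a.congr e1, ?_⟩
  rw [← chi_congr e1, b, Finset.range_eq_Ico]
  refine Finset.sum_congr rfl fun q _ => ?_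
  rw [chi_congr (e0 q)]

end Abstract

attribute [local instance 10000] EtCoh.H._proof_1 EtCoh.Rpush._proof_2
attribute [local instance 10000] TwoRowEt.he TwoRowEt.hinj TwoRowEt.hPullAdd TwoRowEt.hPullPFL
  TwoRowEt.hPullPFC TwoRowEt.hasKInj

/-- All `H^n(X, F)` are finite and almost all vanish. -/
def GoodE (X : Scheme.{u}) (F : EtCoh.Ab X) : Prop := Good (fun n => EtCoh.H X F n)

/-- The Euler characteristic `∑ (-1)^n log #H^n(X, F)`. -/
noncomputable def e (X : Scheme.{u}) (F : EtCoh.Ab X) : ℝ := chi (fun n => EtCoh.H X F n)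

/-- The mod `ℓ` Euler characteristic `∑ (-1)^n log #H^n(X, Z/ℓ)`. -/
noncomputable def ec (ℓ : ℕ) (X : Scheme.{u}) : ℝ := e X (EtCoh.const X (ZMod ℓ))

theorem e_congr {X Y : Scheme.{u}} {F : EtCoh.Ab X} {G : EtCoh.Ab Y}
    (h : ∀ n, Nonempty (EtCoh.H X F n ≃ EtCoh.H Y G n)) : e X F = e Y G := chi_congr h

theorem GoodE.congr {X Y : Scheme.{u}} {F : EtCoh.Ab X} {G : EtCoh.Ab Y}
    (h : ∀ n, Nonempty (EtCoh.H X F n ≃ EtCoh.H Y G n)) (hF : GoodE X F) : GoodE Y G := Good.congr h hF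

variable {X Y : Scheme.{u}}

theorem nonempty_H_iso {F G : EtCoh.Ab X} (i : F ≅ G) (n : ℕ) : Nonempty (EtCoh.H X F n ≃ EtCoh.H X G n) :=
  nonempty_equiv_of_iso (EtCoh.const X ℤ) i n

theorem e_iso {F G : EtCoh.Ab X} (i : F ≅ G) : e X F = e X G := e_congr (nonempty_H_iso i)

theorem GoodE.iso {F G : EtCoh.Ab X} (i : F ≅ G) (h : GoodE X F) : GoodE X G := h.congr (nonempty_H_iso i)

theorem good_mid {S : ShortComplex (EtCoh.Ab X)} (hS : S.ShortExact) (h1 : GoodE X S.X₁) (h3 : GoodE X S.X₃) :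
    GoodE X S.X₂ := EulerExt.good_mid (EtCoh.const X ℤ) hS h1 h3

theorem good_left {S : ShortComplex (EtCoh.Ab X)} (hS : S.ShortExact) (h2 : GoodE X S.X₂) (h3 : GoodE X S.X₃) :
    GoodE X S.X₁ := EulerExt.good_left (EtCoh.const X ℤ) hS h2 h3

theorem good_right {S : ShortComplex (EtCoh.Ab X)} (hS : S.ShortExact) (h1 : GoodE X S.X₁) (h2 : GoodE X S.X₂) :
    GoodE X S.X₃ := EulerExt.good_right (EtCoh.const X ℤ) hS h1 h2

theorem e_add {S : ShortComplex (EtCoh.Ab X)} (hS : S.ShortExact) (h1 : GoodE X S.X₁) (h2 : GoodE X S.X₂)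
    (h3 : GoodE X S.X₃) : e X S.X₂ = e X S.X₁ + e X S.X₃ :=
  EulerExt.chi_add (EtCoh.const X ℤ) hS h1 h2 h3

/-- The Leray Euler characteristic formula. -/
theorem leray (f : X ⟶ Y) (N : ℕ) (G : EtCoh.Ab X) (h1 : ∀ q, GoodE Y ((EtCoh.Rpush f q).obj G))
    (h2 : ∀ q, N < q → ∀ p, Subsingleton (EtCoh.H Y ((EtCoh.Rpush f q).obj G) p)) :
    GoodE X G ∧ e X G = ∑ q ∈ Finset.range (N + 1), (-1 : ℝ) ^ q * e Y ((EtCoh.Rpush f q).obj G) := by
  obtain ⟨a, b⟩ := leray_ext.{u + 1, u + 1} (EtCoh.pullPushAdj f) N (EtCoh.const Y ℤ) G h1 h2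
  have e1 : ∀ n, Nonempty (EX.{u + 1} ((EtCoh.pull f).obj (EtCoh.const Y ℤ)) G n ≃ EtCoh.H X G n) :=
    fun n => ⟨(TwoRowEt.HP f G n).symm.toEquiv⟩
  refine ⟨a.congr e1, ?_⟩
  exact (chi_congr e1).symm.trans b

end Groth.Agent.Lefpen.H714.EulerEt
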