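import Groth.Agent.Lefpen.H714.EulerStrat

/-!
# Euler characteristics of closed subsets: inclusion-exclusion
-/

set_option autoImplicit false
set_option linter.auxLemma false
universe u
open CategoryTheory CategoryTheory.Limits CategoryTheory.Abelian AlgebraicGeometry Opposite TopologicalSpace
open Groth.Agent.Etrest Groth.Agent.Sga4B

namespace Groth.Agent.Lefpen.H714.EulerChi

open EulerAlg EulerEt EulerOC EulerMV EulerConst EulerStrat

variable {Y : Scheme.{u}}

/-- The inclusion of reduced closed subschemes. -/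
noncomputable def inc {S T : Closeds Y} (h : S ≤ T) : YT S ⟶ YT T :=
  Scheme.IdealSheafData.inclusion (Scheme.IdealSheafData.vanishingIdeal_antimono h)

theorem inc_ιT {S T : Closeds Y} (h : S ≤ T) : inc h ≫ ιT T = ιT S :=
  Scheme.IdealSheafData.inclusion_subschemeι _

instance {S T : Closeds Y} (h : S ≤ T) : IsClosedImmersion (inc h) := by
  have : IsClosedImmersion (inc h ≫ ιT T) := by rw [inc_ιT]; infer_instance
  exact IsClosedImmersion.of_comp (inc h) (ιT T)

theorem range_inc {S T : Closeds Y} (h : S ≤ T) : Set.range (inc h) = (ιT T) ⁻¹' (S : Set Y) := by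
  ext y
  constructor
  · rintro ⟨z, rfl⟩
    have h2 : (ιT T) (inc h z) = ιT S z := by rw [← Scheme.Hom.comp_apply, inc_ιT]
    rw [Set.mem_preimage, h2, ← range_ιT]
    exact ⟨z, rfl⟩
  · intro hy
    rw [Set.mem_preimage, ← range_ιT] at hy
    obtain ⟨z, hz⟩ := hy
    refine ⟨z, (ιT T).isClosedEmbedding.injective ?_⟩
    rw [← Scheme.Hom.comp_apply, inc_ιT, hz]

/-- Inclusion-exclusion for two closed subsets. -/
theorem χ_sup_add_inf (ℓ : ℕ) (A B : Closeds Y) (hA : GoodE (YT A) (EtCoh.const (YT A) (ZMod ℓ)))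
    (hB : GoodE (YT B) (EtCoh.const (YT B) (ZMod ℓ)))
    (hAB : GoodE (YT (A ⊓ B)) (EtCoh.const (YT (A ⊓ B)) (ZMod ℓ))) :
    χ ℓ (A ⊔ B) + χ ℓ (A ⊓ B) = χ ℓ A + χ ℓ B := by
  have e1 := fun {X Z : Scheme.{u}} (f : X ⟶ Z) => EtCore.pullConst f (ZMod ℓ)
  obtain ⟨-, h2⟩ := mv (inc (le_sup_left : A ≤ A ⊔ B)) (inc (le_sup_right : B ≤ A ⊔ B))
    (inc (inf_le_right : A ⊓ B ≤ B)) (by
      rw [range_inc, range_inc, ← Set.preimage_union]
      rw [Set.eq_univ_iff_forall]
      intro y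
      have h : ιT (A ⊔ B) y ∈ ((A ⊔ B : Closeds Y) : Set Y) := by
        rw [← range_ιT]; exact ⟨y, rfl⟩
      exact h) (by
      rw [range_inc, range_inc, ← Set.preimage_comp]
      ext y
      have h : (ιT (A ⊔ B)) (inc (le_sup_right : B ≤ A ⊔ B) y) = ιT B y := by
        rw [← Scheme.Hom.comp_apply, inc_ιT]
      rw [Set.mem_preimage, Set.mem_preimage, Function.comp_apply, h]
      have h' : ιT B y ∈ (B : Set Y) := by rw [← range_ιT]; exact ⟨y, rfl⟩
      constructor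
      · exact fun h3 => h3.1
      · exact fun h3 => ⟨h3, h'⟩) (EtCoh.const _ (ZMod ℓ))
    (hA.iso (e1 _).symm) (hB.iso (e1 _).symm)
    (hAB.iso ((EtCoh.pull _).mapIso (e1 _) ≪≫ e1 _).symm)
  rw [e_iso (e1 (inc (le_sup_left : A ≤ A ⊔ B))), e_iso (e1 (inc (le_sup_right : B ≤ A ⊔ B))),
    e_iso ((EtCoh.pull (inc (inf_le_right : A ⊓ B ≤ B))).mapIso (e1 _) ≪≫ e1 _)] at h2
  exact h2

/-- closed subsets of a closed subscheme -/
theorem χ_closed {Z : Scheme.{u}} (i : Z ⟶ Y) [IsClosedImmersion i] (D : Closeds Z) (D' : Closeds Y)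
    (h : i '' (D : Set Z) = D') (ℓ : ℕ) : χ ℓ D = χ ℓ D' := by
  have h1 : Set.range (ιT D ≫ i) = D' := by
    rw [← h, ← range_ιT D, ← Set.range_comp]
    rfl
  exact (χ_eq (ιT D ≫ i) D' h1 ℓ).symm

end Groth.Agent.Lefpen.H714.EulerChi
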