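import Groth.Agent.Lefpen.H714.EulerAlg
import Groth.Agent.Sga4B.ExtTrunc

/-!
# Euler characteristic of a complex from its cohomology objects (Leray spectral sequence, numerically)

For `Z ∈ B` and `K ∈ D^{≥ m}(B)`: if the families `p ↦ Ext^p(Z, H^q K)` are good and vanish for `q > N` then
`n ↦ Hom(Z[0], K[n])` is good and its Euler characteristic is `∑ (-1)^q χ(Ext^•(Z, H^q K))`.
-/

set_option autoImplicit false
universe w w' v u
open CategoryTheory CategoryTheory.Limits CategoryTheory.Pretriangulated DerivedCategory Opposite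
open CategoryTheory.Abelian CategoryTheory.Triangulated

namespace Groth.Agent.Lefpen.H714.EulerD

open EulerAlg Groth.Agent.Sga4B

variable {B : Type u} [Category.{v} B] [Abelian B] [HasDerivedCategory.{w'} B]

/-- `n ↦ Hom(Z, K[n])`, `n : ℕ`. -/
abbrev HD (Z K : DerivedCategory B) (n : ℕ) : Type w' := Z ⟶ K⟦(n : ℤ)⟧

/-- The long exact sequence data of a distinguished triangle. -/
noncomputable def hf (Z : DerivedCategory B) {K L : DerivedCategory B} (f : K ⟶ L) (n : ℤ) :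
    (Z ⟶ K⟦n⟧) →+ (Z ⟶ L⟦n⟧) where
  toFun x := x ≫ f⟦n⟧'
  map_zero' := zero_comp
  map_add' _ _ := Preadditive.add_comp _ _ _ _ _ _

noncomputable def hd (Z : DerivedCategory B) (T : Triangle (DerivedCategory B)) (n : ℤ) :
    (Z ⟶ T.obj₃⟦n⟧) →+ (Z ⟶ T.obj₁⟦n + 1⟧) where
  toFun x := x ≫ T.mor₃⟦n⟧' ≫ (shiftFunctorAdd' (DerivedCategory B) 1 n (n + 1) (by lia)).inv.app T.obj₁
  map_zero' := zero_comp
  map_add' _ _ := Preadditive.add_comp _ _ _ _ _ _

theorem exact12 (Z : DerivedCategory B) (T : Triangle (DerivedCategory B)) (hT : T ∈ distTriang _) (n : ℤ) :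
    Function.Exact (hf Z T.mor₁ n) (hf Z T.mor₂ n) := by
  intro x
  constructor
  · intro hx
    obtain ⟨g, hg⟩ := ExtTrunc.exact₂ Z T hT n x hx
    exact ⟨g, hg⟩
  · rintro ⟨y, rfl⟩
    change (y ≫ T.mor₁⟦n⟧') ≫ T.mor₂⟦n⟧' = 0
    rw [Category.assoc, ← Functor.map_comp, comp_distTriang_mor_zero₁₂ T hT, Functor.map_zero, comp_zero]

theorem exact23 (Z : DerivedCategory B) (T : Triangle (DerivedCategory B)) (hT : T ∈ distTriang _) (n : ℤ) :
    Function.Exact (hf Z T.mor₂ n) (hd Z T n) := by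
  intro x
  constructor
  · intro hx
    obtain ⟨g, hg⟩ := ExtTrunc.exact₃ Z T hT n x hx
    exact ⟨g, hg⟩
  · rintro ⟨y, rfl⟩
    change (y ≫ T.mor₂⟦n⟧') ≫ T.mor₃⟦n⟧' ≫ _ = 0
    have h : T.mor₂⟦n⟧' ≫ T.mor₃⟦n⟧' = 0 := by
      rw [← Functor.map_comp, comp_distTriang_mor_zero₂₃ T hT, Functor.map_zero]
    rw [Category.assoc, reassoc_of% h, zero_comp, comp_zero]

theorem exact31 (Z : DerivedCategory B) (T : Triangle (DerivedCategory B)) (hT : T ∈ distTriang _) (n : ℤ) :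
    Function.Exact (hd Z T n) (hf Z T.mor₁ (n + 1)) := by
  intro x
  constructor
  · intro hx
    obtain ⟨g, hg⟩ := ExtTrunc.exact₁ Z T hT n x hx
    exact ⟨g, hg⟩
  · rintro ⟨y, rfl⟩
    change (y ≫ T.mor₃⟦n⟧' ≫ (shiftFunctorAdd' (DerivedCategory B) 1 n (n + 1) (by lia)).inv.app T.obj₁) ≫
      T.mor₁⟦n + 1⟧' = 0
    have h : T.mor₃⟦n⟧' ≫ (T.mor₁⟦(1 : ℤ)⟧')⟦n⟧' = 0 := by
      rw [← Functor.map_comp, comp_distTriang_mor_zero₃₁ T hT, Functor.map_zero]
    have h' : (shiftFunctorAdd' (DerivedCategory B) 1 n (n + 1) (by lia)).inv.app T.obj₁ ≫ T.mor₁⟦n + 1⟧' =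
        (T.mor₁⟦(1 : ℤ)⟧')⟦n⟧' ≫ (shiftFunctorAdd' (DerivedCategory B) 1 n (n + 1) (by lia)).inv.app T.obj₂ :=
      ((shiftFunctorAdd' (DerivedCategory B) 1 n (n + 1) (by lia)).inv.naturality T.mor₁).symm
    rw [Category.assoc, Category.assoc, h', reassoc_of% h, zero_comp, comp_zero]

section triangle

variable (Z : DerivedCategory B) (T : Triangle (DerivedCategory B)) (hT : T ∈ distTriang _)
  (h0 : ∀ x : Z ⟶ T.obj₃⟦(-1 : ℤ)⟧, x = 0)

include hT in
theorem good_mid (hA : Good (HD Z T.obj₁)) (hC : Good (HD Z T.obj₃)) : Good (HD Z T.obj₂) :=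
  EulerAlg.good_mid (fun n => hf Z T.mor₁ (n : ℤ)) (fun n => hf Z T.mor₂ (n : ℤ))
    (fun n => exact12 Z T hT n) hA hC

include hT h0 in
theorem injective_zero : Function.Injective (hf Z T.mor₁ ((0 : ℕ) : ℤ)) := by
  have key : ∀ m : ℤ, m = -1 + 1 → Function.Injective (hf Z T.mor₁ m) := by
    rintro m rfl
    rw [injective_iff_map_eq_zero]
    intro x hx
    obtain ⟨y, hy⟩ := (exact31 Z T hT (-1) x).1 hx
    rw [← hy, h0 y, map_zero]
  exact key _ (by simp)

include hT h0 in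
theorem chi_add (hA : Good (HD Z T.obj₁)) (hC : Good (HD Z T.obj₃)) :
    chi (HD Z T.obj₂) = chi (HD Z T.obj₁) + chi (HD Z T.obj₃) :=
  EulerAlg.chi_add (fun n => hf Z T.mor₁ (n : ℤ)) (fun n => hf Z T.mor₂ (n : ℤ))
    (fun n => hd Z T (n : ℤ)) (injective_zero Z T hT h0)
    (fun n => exact12 Z T hT n) (fun n => exact23 Z T hT n) (fun n => exact31 Z T hT n) hA
    (good_mid Z T hT hA hC) hC

end triangle

section rows

variable [HasExt.{w} B]

/-- The `q`-th row `p ↦ Ext^p(Z, H^q K)`. -/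
abbrev row (Z : B) (K : DerivedCategory B) (q : ℕ) (p : ℕ) : Type w :=
  Ext.{w} Z ((homologyFunctor B (q : ℤ)).obj K) p

omit [HasExt.{w} B] in
theorem ge_hom_eq_zero (Z : B) (K : DerivedCategory B) (a n : ℤ) [K.IsGE a] (h : n < a)
    (x : (singleFunctor B 0).obj Z ⟶ K⟦n⟧) : x = 0 := by
  have i1 : TStructure.t.IsGE K a := (inferInstance : K.IsGE a)
  have i2 : TStructure.t.IsGE (K⟦n⟧) (a - n) := TStructure.t.isGE_shift K a n (a - n) (by lia)
  have i3 : TStructure.t.IsLE ((singleFunctor B 0).obj Z) 0 :=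
    (inferInstance : ((singleFunctor B 0).obj Z).IsLE 0)
  exact TStructure.t.zero x 0 (a - n) (by lia)

/-- All rows vanish. -/
theorem hom_eq_zero_of_rows (Z : B) (K : DerivedCategory B) (m : ℕ) [K.IsGE (m : ℤ)]
    (h : ∀ q : ℕ, m ≤ q → ∀ p, Subsingleton (row.{w} Z K q p)) (n : ℤ)
    (x : (singleFunctor B 0).obj Z ⟶ K⟦n⟧) : x = 0 := by
  have hT := TStructure.t.triangleLEGE_distinguished n (n + 1) rfl K
  have i1 : ((TStructure.t.truncGE (n + 1)).obj K).IsGE (n + 1) :=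
    (inferInstance : TStructure.t.IsGE ((TStructure.t.truncGE (n + 1)).obj K) (n + 1))
  have h1 : x ≫ ((TStructure.t.truncGEπ (n + 1)).app K)⟦n⟧' = 0 :=
    ge_hom_eq_zero Z ((TStructure.t.truncGE (n + 1)).obj K) (n + 1) n (by lia) _
  obtain ⟨g, hg⟩ := ExtTrunc.exact₂ _ _ hT n x h1
  have i2 : ((TStructure.t.truncLE n).obj K).IsLE n :=
    (inferInstance : TStructure.t.IsLE ((TStructure.t.truncLE n).obj K) n)
  have i3 : ((TStructure.t.truncLE n).obj K).IsGE (m : ℤ) := by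
    have : TStructure.t.IsGE K (m : ℤ) := (inferInstance : K.IsGE (m : ℤ))
    exact (inferInstance : TStructure.t.IsGE ((TStructure.t.truncLE n).obj K) (m : ℤ))
  have h0 : g = 0 := by
    refine ExtTrunc.hom_eq_zero_of_ext.{w} (m : ℤ) n n Z ((TStructure.t.truncLE n).obj K) (fun q j h1 h2 h3 => ?_) g
    obtain ⟨q', rfl⟩ := Int.eq_ofNat_of_zero_le (a := q) (by lia)
    have h4 := DTrunc.isIso_homology_truncLE n (q' : ℤ) h2 K
    have h5 := h q' (by exact_mod_cast h1) j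
    refine ⟨fun x y => ?_⟩
    have h6 : ∀ z : Ext.{w} Z ((homologyFunctor B (q' : ℤ)).obj ((TStructure.t.truncLE n).obj K)) j,
        z = (z.comp (Ext.mk₀ ((homologyFunctor B (q' : ℤ)).map ((TStructure.t.truncLEι n).app K)))
          (add_zero j)).comp
          (Ext.mk₀ (inv ((homologyFunctor B (q' : ℤ)).map ((TStructure.t.truncLEι n).app K))))
          (add_zero j) := by
      intro z
      rw [Ext.comp_assoc_of_third_deg_zero, Ext.mk₀_comp_mk₀, IsIso.hom_inv_id, Ext.comp_mk₀_id]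
    rw [h6 x, h6 y]
    exact congrArg (fun z => Ext.comp z _ (add_zero j)) (h5.elim _ _)
  rw [← hg, h0]
  exact zero_comp

/-- `Hom(Z[0], W[-m][n])`, `n : ℕ`, in terms of `Ext^i(Z, W)`. -/
theorem single_shift (Z W : B) (m : ℕ) :
    (∀ n, n < m → Subsingleton (HD ((singleFunctor B 0).obj Z) ((singleFunctor B (m : ℤ)).obj W) n)) ∧
    (∀ i, Nonempty (HD ((singleFunctor B 0).obj Z) ((singleFunctor B (m : ℤ)).obj W) (i + m) ≃
      Ext.{w} Z W i)) := by
  refine ⟨fun n hn => ⟨fun x y => ?_⟩, fun i => ⟨(ExtTrunc.extEquiv (m : ℤ) ((i + m : ℕ) : ℤ) i (by push_cast; ring) Z W).toEquiv⟩⟩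
  rw [ExtTrunc.single_hom_eq_zero (m : ℤ) (n : ℤ) (by exact_mod_cast hn) Z W x,
    ExtTrunc.single_hom_eq_zero (m : ℤ) (n : ℤ) (by exact_mod_cast hn) Z W y]

theorem main (N : ℕ) (Z : B) : ∀ (k m : ℕ) (_ : N + 1 ≤ m + k) (K : DerivedCategory B) (_ : K.IsGE (m : ℤ))
    (_ : ∀ q, m ≤ q → Good (row.{w} Z K q)) (_ : ∀ q, N < q → ∀ p, Subsingleton (row.{w} Z K q p)),
    Good (HD ((singleFunctor B 0).obj Z) K) ∧
      chi (HD ((singleFunctor B 0).obj Z) K) =
        ∑ q ∈ Finset.Ico m (N + 1), (-1 : ℝ) ^ q * chi (row.{w} Z K q) := by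
  intro k
  induction k with
  | zero =>
    intro m hm K hK h1 h2
    have h3 : ∀ n, Subsingleton (HD ((singleFunctor B 0).obj Z) K n) := fun n => ⟨fun x y => by
      rw [hom_eq_zero_of_rows.{w} Z K m (fun q hq => h2 q (by omega)) (n : ℤ) x,
        hom_eq_zero_of_rows.{w} Z K m (fun q hq => h2 q (by omega)) (n : ℤ) y]⟩
    refine ⟨good_of_subsingleton h3, ?_⟩
    rw [chi_of_subsingleton h3, Finset.Ico_eq_empty (by omega), Finset.sum_empty]
  | succ k ih =>
    intro m hm K hK h1 h2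
    by_cases hmN : N < m
    · exact ih m (by omega) K hK h1 h2
    obtain ⟨δ, hδ⟩ := DTrunc.exists_distinguished_ι (m : ℤ) ((m : ℤ) + 1) rfl K
    have i1 : ((TStructure.t.truncGE ((m : ℤ) + 1)).obj K).IsGE ((m : ℤ) + 1) :=
      (inferInstance : TStructure.t.IsGE ((TStructure.t.truncGE ((m : ℤ) + 1)).obj K) ((m : ℤ) + 1))
    have i1' : ((TStructure.t.truncGE ((m : ℤ) + 1)).obj K).IsGE ((m + 1 : ℕ) : ℤ) := by
      push_cast; exact i1
    have e : ∀ q : ℕ, m + 1 ≤ q → ∀ p, Nonempty (row.{w} Z K q p ≃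
        row.{w} Z ((TStructure.t.truncGE ((m : ℤ) + 1)).obj K) q p) := by
      intro q hq p
      have h4 := DTrunc.isIso_homology_truncGE ((m : ℤ) + 1) (q : ℤ) (by exact_mod_cast hq) K
      refine ⟨⟨fun z => z.comp (Ext.mk₀ ((homologyFunctor B (q : ℤ)).map ((TStructure.t.truncGEπ ((m : ℤ) + 1)).app K))) (add_zero p),
        fun z => z.comp (Ext.mk₀ (inv ((homologyFunctor B (q : ℤ)).map ((TStructure.t.truncGEπ ((m : ℤ) + 1)).app K)))) (add_zero p), ?_, ?_⟩⟩
      · intro z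
        simp only
        rw [Ext.comp_assoc_of_third_deg_zero, Ext.mk₀_comp_mk₀, IsIso.hom_inv_id, Ext.comp_mk₀_id]
      · intro z
        simp only
        rw [Ext.comp_assoc_of_third_deg_zero, Ext.mk₀_comp_mk₀, IsIso.inv_hom_id, Ext.comp_mk₀_id]
    have e2 : ∀ q : ℕ, N < q → ∀ p, Subsingleton
        (row.{w} Z ((TStructure.t.truncGE ((m : ℤ) + 1)).obj K) q p) := fun q hq p => by
      have := h2 q hq p
      exact (e q (by omega) p).some.symm.subsingleton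
    obtain ⟨g3, c3⟩ := ih (m + 1) (by omega) _ i1' (fun q hq => (h1 q (by omega)).congr (e q hq)) e2
    obtain ⟨s1, s2⟩ := single_shift.{w} Z ((homologyFunctor B (m : ℤ)).obj K) m
    have g1 : Good (HD ((singleFunctor B 0).obj Z)
        ((singleFunctor B (m : ℤ)).obj ((homologyFunctor B (m : ℤ)).obj K))) :=
      good_shift m s1 s2 (h1 m le_rfl)
    have c1 := chi_shift m s1 s2 (h1 m le_rfl)
    have h0 : ∀ x : (singleFunctor B 0).obj Z ⟶ ((TStructure.t.truncGE ((m : ℤ) + 1)).obj K)⟦(-1 : ℤ)⟧,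
        x = 0 := fun x => ge_hom_eq_zero Z _ ((m : ℤ) + 1) (-1) (by lia) x
    refine ⟨good_mid _ _ hδ g1 g3, ?_⟩
    refine (chi_add _ _ hδ h0 g1 g3).trans ?_
    refine (congrArg₂ (· + ·) c1 c3).trans ?_
    rw [Finset.sum_eq_sum_Ico_succ_bot (show m < N + 1 by omega)]
    congr 1
    refine Finset.sum_congr rfl fun q hq => ?_
    rw [Finset.mem_Ico] at hq
    rw [chi_congr (e q hq.1)]

end rows

end Groth.Agent.Lefpen.H714.EulerD
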