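import Groth.Agent.Lefpen.H714.EulerOC
import Groth.Agent.Etcore.OpenClosed

/-!
# Mayer-Vietoris for Euler characteristics and two closed subschemes
-/

set_option autoImplicit false
set_option linter.auxLemma false
universe u
open CategoryTheory CategoryTheory.Limits CategoryTheory.Abelian AlgebraicGeometry Opposite
open Groth.Agent.Etrest Groth.Agent.Sga4B

namespace Groth.Agent.Lefpen.H714.EulerMV

open EulerAlg EulerEt EulerOC

attribute [local instance 10000] EtCoh.H._proof_1 EtCoh.Rpush._proof_2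
attribute [local instance 10000] TwoRowEt.he TwoRowEt.hinj TwoRowEt.hPullAdd TwoRowEt.hPullPFL
  TwoRowEt.hPullPFC TwoRowEt.hasKInj

/-- The unit of a surjective closed immersion is an isomorphism. -/
theorem isIso_unit_of_surjective {Z Y : Scheme.{u}} (i : Z ⟶ Y) [IsClosedImmersion i] (hi : Set.range i = Set.univ)
    (F : EtCoh.Ab Y) : IsIso ((EtCoh.pullPushAdj i).unit.app F) := by
  refine Etcore.Stalks.isIso_of_stalks _ fun x => ?_
  obtain ⟨Ω, _, _, ξ, hξ⟩ := Etcore.Stalks.exists_geom x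
  exact ⟨Ω, inferInstance, inferInstance, ξ, hξ,
    Etcore.OpenClosed.isIso_stalk_unit i ξ (by rw [hi]; trivial) F⟩

variable {Y A B C : Scheme.{u}} (a : A ⟶ Y) [IsClosedImmersion a] (b : B ⟶ Y) [IsClosedImmersion b]
  (c : C ⟶ B) [IsClosedImmersion c] (hab : Set.range a ∪ Set.range b = Set.univ)
  (hc : Set.range c = b ⁻¹' (Set.range a)) (F : EtCoh.Ab Y)

/-- the open complement of `A` -/
def V : Y.Opens := ⟨(Set.range a)ᶜ, a.isClosedEmbedding.isClosed_range.isOpen_compl⟩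

omit [IsClosedImmersion b] in
include hab in
theorem range_res : Set.range (b ∣_ V a) = Set.univ := by
  ext ⟨y, hy⟩
  simp only [Set.mem_univ, iff_true]
  have h1 : y ∈ Set.range a ∪ Set.range b := by rw [hab]; trivial
  obtain h1 | ⟨z, hz⟩ := h1
  · exact absurd h1 hy
  · have h2 : z ∈ b ⁻¹ᵁ V a := by
      change b z ∈ V a
      rw [hz]; exact hy
    refine ⟨⟨z, h2⟩, ?_⟩
    apply (V a).ι.isOpenEmbedding.injective
    have h3 : (V a).ι ((b ∣_ V a) ⟨z, h2⟩) = b ((b ⁻¹ᵁ V a).ι ⟨z, h2⟩) := by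
      rw [← Scheme.Hom.comp_apply, morphismRestrict_ι, Scheme.Hom.comp_apply]
    rw [h3]
    exact hz

include hab in
theorem nonempty_sh_iso : Nonempty ((EtCoh.push b).obj (sh (b ⁻¹ᵁ V a) ((EtCoh.pull b).obj F)) ≅ sh (V a) F) := by
  have h1 := range_res a b hab
  have h2 := isIso_unit_of_surjective (b ∣_ V a) h1 ((EtCoh.pull (V a).ι).obj F)
  obtain ⟨e⟩ := Groth.Agent.S0653.result b (V a).ι (b ⁻¹ᵁ V a).ι (b ∣_ V a)
    (isPullback_morphismRestrict b (V a)).flip ((EtCoh.pull (b ⁻¹ᵁ V a).ι).obj ((EtCoh.pull b).obj F))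
  refine ⟨e ≪≫ (EtShriek.extZero (V a).ι).mapIso ?_⟩
  exact (EtCoh.push (b ∣_ V a)).mapIso (((EtCore.pullComp (b ⁻¹ᵁ V a).ι b).symm ≪≫
    EtCore.pullCongr (morphismRestrict_ι b (V a)).symm ≪≫ EtCore.pullComp (b ∣_ V a) (V a).ι).app F) ≪≫
      (asIso ((EtCoh.pullPushAdj (b ∣_ V a)).unit.app ((EtCoh.pull (V a).ι).obj F))).symm

include hab hc in
theorem mv (hA : GoodE A ((EtCoh.pull a).obj F)) (hB : GoodE B ((EtCoh.pull b).obj F))
    (hC : GoodE C ((EtCoh.pull c).obj ((EtCoh.pull b).obj F))) :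
    GoodE Y F ∧ e Y F + e C ((EtCoh.pull c).obj ((EtCoh.pull b).obj F)) =
      e A ((EtCoh.pull a).obj F) + e B ((EtCoh.pull b).obj F) := by
  obtain ⟨j⟩ := nonempty_sh_iso a b hab F
  have hc' : ((b ⁻¹ᵁ V a : B.Opens) : Set B) = (Set.range c)ᶜ := by
    rw [hc]; rfl
  have h1 := good_sh c (b ⁻¹ᵁ V a) hc' ((EtCoh.pull b).obj F) hB hC
  have h2 := dec c (b ⁻¹ᵁ V a) hc' ((EtCoh.pull b).obj F) h1 hC
  have h3 : GoodE Y (sh (V a) F) := ((good_push_iff b _).2 h1).iso j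
  have h4 : e Y (sh (V a) F) = e B (sh (b ⁻¹ᵁ V a) ((EtCoh.pull b).obj F)) := by
    rw [← e_iso j, e_push]
  refine ⟨good_of a (V a) rfl F h3 hA, ?_⟩
  rw [dec a (V a) rfl F h3 hA, h4, h2]
  ring

end Groth.Agent.Lefpen.H714.EulerMV
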