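import Groth.Agent.Lefpen.H714.EulerEt
import Groth.Agent.Sga5.ClosedPush
import Groth.Agent.Sga4h.EtaleRes
import Groth.Agent.S0654
import Groth.Agent.S0653
import Groth.Agent.S0067

/-!
# Euler characteristics and closed/open decompositions

`U : Y.Opens`, `i : Z ⟶ Y` closed immersion with range the complement of `U`.
* `ses`: `0 → j_! j^* F → F → i_* i^* F → 0`.
* `dec`, `good_shriek`, `good_closed`.
* `e_closed_congr`: `e Z (i^* F)` only depends on the range of the closed immersion `i`.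
-/

set_option autoImplicit false
set_option linter.auxLemma false
universe u
open CategoryTheory CategoryTheory.Limits CategoryTheory.Abelian AlgebraicGeometry Opposite
open Groth.Agent.Etrest Groth.Agent.Sga4B

namespace Groth.Agent.Lefpen.H714.EulerOC

open EulerAlg EulerEt

attribute [local instance 10000] EtCoh.H._proof_1 EtCoh.Rpush._proof_2
attribute [local instance 10000] TwoRowEt.he TwoRowEt.hinj TwoRowEt.hPullAdd TwoRowEt.hPullPFL
  TwoRowEt.hPullPFC TwoRowEt.hasKInj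

instance (priority := low) jc {W P : Scheme.{u}} (w : W ⟶ P) [Etale w] : EtShriek.JCont w :=
  Sga4h.EtaleRes.jCont w

variable {Y : Scheme.{u}}

/-- `j_! j^* F` for the open `U` of `Y`. -/
noncomputable abbrev sh (U : Y.Opens) (F : EtCoh.Ab Y) : EtCoh.Ab Y :=
  (EtShriek.extZero U.ι).obj ((EtCoh.pull U.ι).obj F)

/-- restriction to `U` is inverse image -/
noncomputable def shIso (U : Y.Opens) (F : EtCoh.Ab Y) :
    sh U F ≅ (EtShriek.extZero U.ι).obj ((EtShriek.restrAlong U.ι).obj F) :=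
  (EtShriek.extZero U.ι).mapIso ((Etcore.ShriekBasic.pullIsoRestr U.ι).app F)

variable {Z : Scheme.{u}} (i : Z ⟶ Y) [IsClosedImmersion i] (U : Y.Opens)
  (hU : (U : Set Y) = (Set.range i)ᶜ) (F : EtCoh.Ab Y)

include hU

theorem ses : ∃ S : ShortComplex (EtCoh.Ab Y), S.ShortExact ∧ Nonempty (S.X₁ ≅ sh U F) ∧ S.X₂ = F ∧
    S.X₃ = (EtCoh.push i).obj ((EtCoh.pull i).obj F) := by
  obtain ⟨w, h⟩ := Groth.Agent.S0654.result i U hU F
  exact ⟨_, h, ⟨(shIso U F).symm⟩, rfl, rfl⟩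

omit hU in
theorem good_push_iff (G : EtCoh.Ab Z) : GoodE Y ((EtCoh.push i).obj G) ↔ GoodE Z G :=
  ⟨fun h => h.congr fun n => ⟨(Sga5.ClosedPush.nonempty_H_push i G n).some.toEquiv⟩,
    fun h => h.congr fun n => ⟨(Sga5.ClosedPush.nonempty_H_push i G n).some.symm.toEquiv⟩⟩

omit hU in
theorem e_push (G : EtCoh.Ab Z) : e Y ((EtCoh.push i).obj G) = e Z G :=
  e_congr fun n => ⟨(Sga5.ClosedPush.nonempty_H_push i G n).some.toEquiv⟩

/-- The sheaf `F` is good as soon as its two pieces are. -/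
theorem good_of (h1 : GoodE Y (sh U F)) (h2 : GoodE Z ((EtCoh.pull i).obj F)) : GoodE Y F := by
  obtain ⟨S, hS, ⟨e1⟩, e2, e3⟩ := ses i U hU F
  have := good_mid hS (h1.iso e1.symm) (by rw [e3]; exact (good_push_iff i _).2 h2)
  rwa [e2] at this

theorem good_sh (h1 : GoodE Y F) (h2 : GoodE Z ((EtCoh.pull i).obj F)) : GoodE Y (sh U F) := by
  obtain ⟨S, hS, ⟨e1⟩, e2, e3⟩ := ses i U hU F
  exact (good_left hS (by rwa [e2]) (by rw [e3]; exact (good_push_iff i _).2 h2)).iso e1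

theorem good_pull (h1 : GoodE Y F) (h2 : GoodE Y (sh U F)) : GoodE Z ((EtCoh.pull i).obj F) := by
  obtain ⟨S, hS, ⟨e1⟩, e2, e3⟩ := ses i U hU F
  have := good_right hS (h2.iso e1.symm) (by rwa [e2])
  rw [e3] at this
  exact (good_push_iff i _).1 this

theorem dec (h1 : GoodE Y (sh U F)) (h2 : GoodE Z ((EtCoh.pull i).obj F)) :
    e Y F = e Y (sh U F) + e Z ((EtCoh.pull i).obj F) := by
  obtain ⟨S, hS, ⟨e1⟩, e2, e3⟩ := ses i U hU F
  have h3 : GoodE Y S.X₃ := by rw [e3]; exact (good_push_iff i _).2 h2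
  have h4 := e_add hS (h1.iso e1.symm) (by rw [e2]; exact good_of i U hU F h1 h2) h3
  rw [e2, e_iso e1, e3, e_push i] at h4
  exact h4

/-- comparison of two sheaves which are isomorphic on `U` -/
theorem good_of_iso (G : EtCoh.Ab Y) (hFG : Nonempty ((EtCoh.pull U.ι).obj F ≅ (EtCoh.pull U.ι).obj G))
    (hG : GoodE Y G) (hG' : GoodE Z ((EtCoh.pull i).obj G)) (hF' : GoodE Z ((EtCoh.pull i).obj F)) :
    GoodE Y F :=
  good_of i U hU F ((good_sh i U hU G hG hG').iso ((EtShriek.extZero U.ι).mapIso hFG.some.symm)) hF'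

theorem e_sub_of_iso (G : EtCoh.Ab Y)
    (hFG : Nonempty ((EtCoh.pull U.ι).obj F ≅ (EtCoh.pull U.ι).obj G))
    (hG : GoodE Y G) (hG' : GoodE Z ((EtCoh.pull i).obj G)) (hF' : GoodE Z ((EtCoh.pull i).obj F)) :
    e Y F - e Z ((EtCoh.pull i).obj F) = e Y G - e Z ((EtCoh.pull i).obj G) := by
  have h1 := good_sh i U hU G hG hG'
  have h2 : GoodE Y (sh U F) := h1.iso ((EtShriek.extZero U.ι).mapIso hFG.some.symm)
  have h3 : e Y (sh U F) = e Y (sh U G) := e_iso ((EtShriek.extZero U.ι).mapIso hFG.some)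
  rw [dec i U hU F h2 hF', dec i U hU G h1 hG', h3]
  ring

omit hU in
/-- `i_* i^* F` only depends on the range of `i`. -/
theorem nonempty_pushPull_iso {Z' : Scheme.{u}} (i' : Z' ⟶ Y) [IsClosedImmersion i']
    (h : Set.range i = Set.range i') :
    Nonempty ((EtCoh.push i).obj ((EtCoh.pull i).obj F) ≅ (EtCoh.push i').obj ((EtCoh.pull i').obj F)) := by
  let U : Y.Opens := ⟨(Set.range i)ᶜ, i.isClosedEmbedding.isClosed_range.isOpen_compl⟩
  obtain ⟨w, h1⟩ := Groth.Agent.S0654.result i U rfl F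
  obtain ⟨w', h1'⟩ := Groth.Agent.S0654.result i' U (by change (Set.range i)ᶜ = _; rw [h]) F
  have e1 := h1.gIsCokernel
  have e2 := h1'.gIsCokernel
  exact ⟨e1.coconePointUniqueUpToIso e2⟩

omit hU in
theorem nonempty_H_closed {Z' : Scheme.{u}} (i' : Z' ⟶ Y) [IsClosedImmersion i']
    (h : Set.range i = Set.range i') (n : ℕ) :
    Nonempty (EtCoh.H Z ((EtCoh.pull i).obj F) n ≃ EtCoh.H Z' ((EtCoh.pull i').obj F) n) := by
  obtain ⟨e⟩ := nonempty_pushPull_iso i F i' h
  exact ⟨((Sga5.ClosedPush.nonempty_H_push i _ n).some.symm.toEquiv.trans (nonempty_H_iso e n).some).trans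
    (Sga5.ClosedPush.nonempty_H_push i' _ n).some.toEquiv⟩

end Groth.Agent.Lefpen.H714.EulerOC
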