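import Groth.Agent.Lefpen.H714.EulerMV
import Groth.Agent.Lefpen.H714.EulerConst
import Groth.Agent.Ega1.ReducedSub
import Groth.Agent.EtpbcA.PullFLC

/-!
# Euler characteristics and stratifications

`Y` a noetherian scheme with closed subsets `T 0 = ⊤ ⊇ T 1 ⊇ ... ⊇ T N = ⊥`, `F` a sheaf on `Y` which is Zariski-locally
constant on the strata `T a ∖ T (a+1)` with finite value `G a` killed by `ℓ`. Then
`e Y F = ∑_{a < N} log #(G a) / log ℓ * (χ(T a) - χ(T (a+1)))`, `χ T = ec ℓ T_red`.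
-/

set_option autoImplicit false
set_option linter.auxLemma false
universe u
open CategoryTheory CategoryTheory.Limits CategoryTheory.Abelian AlgebraicGeometry Opposite TopologicalSpace
open Groth.Agent.Etrest Groth.Agent.Sga4B

namespace Groth.Agent.Lefpen.H714.EulerStrat

open EulerAlg EulerEt EulerOC EulerMV EulerConst

attribute [local instance 10000] EtCoh.H._proof_1 EtCoh.Rpush._proof_2
attribute [local instance 10000] TwoRowEt.he TwoRowEt.hinj TwoRowEt.hPullAdd TwoRowEt.hPullPFL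
  TwoRowEt.hPullPFC TwoRowEt.hasKInj

variable {Y : Scheme.{u}}

/-- The reduced closed subscheme with support `T`. -/
noncomputable abbrev YT (T : Closeds Y) : Scheme.{u} := (Scheme.IdealSheafData.vanishingIdeal T).subscheme

noncomputable abbrev ιT (T : Closeds Y) : YT T ⟶ Y := (Scheme.IdealSheafData.vanishingIdeal T).subschemeι

theorem range_ιT (T : Closeds Y) : Set.range (ιT T) = T := by
  rw [Scheme.IdealSheafData.range_subschemeι, Scheme.IdealSheafData.coe_support_vanishingIdeal]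

instance isReduced_YT (T : Closeds Y) : IsReduced (YT T) :=
  Ega1.ReducedSub.isReduced_subscheme_vanishingIdeal T

/-- The Euler characteristic of a closed subset. -/
noncomputable def χ (ℓ : ℕ) (T : Closeds Y) : ℝ := ec ℓ (YT T)

/-- pull back of a constant sheaf -/
noncomputable def pullCst {X : Scheme.{u}} (f : X ⟶ Y) (G : AddCommGrpCat.{u + 1}) :
    (EtCoh.pull f).obj ((cst Y).obj G) ≅ (cst X).obj G := (EtCore.pullConstIso f).app G

theorem nonempty_H_const_closed {Z Z' : Scheme.{u}} (i : Z ⟶ Y) [IsClosedImmersion i] (i' : Z' ⟶ Y)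
    [IsClosedImmersion i'] (h : Set.range i = Set.range i') (M : Type) [AddCommGroup M] (n : ℕ) :
    Nonempty (EtCoh.H Z (EtCoh.const Z M) n ≃ EtCoh.H Z' (EtCoh.const Z' M) n) := by
  obtain ⟨a⟩ := nonempty_H_closed i (EtCoh.const Y M) i' h n
  exact ⟨((nonempty_H_iso (EtCore.pullConst i M) n).some.symm.trans a).trans
    (nonempty_H_iso (EtCore.pullConst i' M) n).some⟩

theorem ec_closed_congr {Z Z' : Scheme.{u}} (i : Z ⟶ Y) [IsClosedImmersion i] (i' : Z' ⟶ Y)
    [IsClosedImmersion i'] (h : Set.range i = Set.range i') (ℓ : ℕ) : ec ℓ Z = ec ℓ Z' :=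
  e_congr (nonempty_H_const_closed i i' h (ZMod ℓ))

theorem χ_eq {Z : Scheme.{u}} (i : Z ⟶ Y) [IsClosedImmersion i] (T : Closeds Y) (h : Set.range i = T) (ℓ : ℕ) :
    χ ℓ T = ec ℓ Z :=
  ec_closed_congr (ιT T) i (by rw [range_ιT, h]) ℓ

theorem isZero_of_isEmpty (X : Scheme.{u}) [IsEmpty X] (F : EtCoh.Ab X) : IsZero F :=
  Etcore.Stalks.isZero_of_stalks F fun x => (IsEmpty.false x).elim

theorem e_of_isZero (X : Scheme.{u}) (F : EtCoh.Ab X) (h : IsZero F) : GoodE X F ∧ e X F = 0 := by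
  have h3 : ∀ n, Subsingleton (EtCoh.H X F n) := fun n =>
    ⟨fun x y => by
      have key : ∀ z : Ext.{u + 1} (EtCoh.const X ℤ) F n, z = 0 := fun z => by
        rw [← Ext.comp_mk₀_id z, h.eq_of_src (𝟙 _) 0, Ext.mk₀_zero, Ext.comp_zero]
      exact (key x).trans (key y).symm⟩
  exact ⟨good_of_subsingleton h3, chi_of_subsingleton h3⟩

section Strat

variable [NoetherianSpace Y] (F : EtCoh.Ab Y) (ℓ : ℕ) [Fact ℓ.Prime]
  (hfin : ∀ T : Closeds Y, GoodE (YT T) (EtCoh.const (YT T) (ZMod ℓ)))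
  (N : ℕ) (T : ℕ → Closeds Y) (hanti : Antitone T) (h0 : T 0 = ⊤) (hN : T N = ⊥)
  (G : ℕ → Type (u + 1)) [∀ a, AddCommGroup (G a)] [∀ a, Finite (G a)] (hG : ∀ a, ∀ x : G a, ℓ • x = 0)
  (hloc : ∀ a < N, ∀ x ∈ T a, x ∉ T (a + 1) → ∃ V : Y.Opens, x ∈ V ∧ ∀ (C : Scheme.{u}) [IsReduced C] (κ : C ⟶ Y),
    (∀ c, κ c ∈ V ∧ κ c ∈ T a ∧ κ c ∉ T (a + 1)) →
      Nonempty ((EtCoh.pull κ).obj F ≅ (cst C).obj (AddCommGrpCat.of (G a))))

include hfin hanti h0 hN hG hloc

theorem strat_aux : ∀ S : Closeds Y, GoodE (YT S) ((EtCoh.pull (ιT S)).obj F) ∧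
    e (YT S) ((EtCoh.pull (ιT S)).obj F) =
      ∑ a ∈ Finset.range N, lg (G a) / Real.log ℓ * (χ ℓ (S ⊓ T a) - χ ℓ (S ⊓ T (a + 1))) := by
  intro S
  induction S using WellFoundedLT.induction with
  | ind S ih =>
  by_cases hS : S = ⊥
  · subst hS
    have h1 : IsEmpty (YT (⊥ : Closeds Y)) := by
      refine ⟨fun x => ?_⟩
      have h2 : ιT (⊥ : Closeds Y) x ∈ Set.range (ιT (⊥ : Closeds Y)) := ⟨x, rfl⟩
      rw [range_ιT] at h2
      exact h2
    obtain ⟨h3, h4⟩ := e_of_isZero _ _ (isZero_of_isEmpty _ ((EtCoh.pull (ιT (⊥ : Closeds Y))).obj F))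
    refine ⟨h3, ?_⟩
    rw [h4]
    symm
    refine Finset.sum_eq_zero fun a _ => ?_
    rw [bot_inf_eq, bot_inf_eq, sub_self, mul_zero]
  · have hex : ∃ a, a < N ∧ ¬ S ≤ T (a + 1) := by
      cases N with
      | zero =>
        refine absurd ?_ hS
        rw [eq_bot_iff, ← hN, h0]
        exact le_top
      | succ N => exact ⟨N, N.lt_succ_self, by rw [hN]; exact fun h => hS (le_bot_iff.1 h)⟩
    classical
    obtain ⟨a, ⟨haN, ha⟩, hmin⟩ : ∃ a, (a < N ∧ ¬ S ≤ T (a + 1)) ∧ ∀ b, (b < N ∧ ¬ S ≤ T (b + 1)) → a ≤ b :=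
      ⟨Nat.find hex, Nat.find_spec hex, fun b hb => Nat.find_min' hex hb⟩
    have hSa : S ≤ T a := by
      rcases Nat.eq_zero_or_pos a with rfl | hpos
      · rw [h0]; exact le_top
      · by_contra h
        have := hmin (a - 1) ⟨by omega, by rwa [Nat.sub_add_cancel hpos]⟩
        omega
    obtain ⟨x, hxS, hxT⟩ := Set.not_subset.1 (show ¬ (S : Set Y) ⊆ T (a + 1) from ha)
    obtain ⟨V, hxV, hV⟩ := hloc a haN x (hSa hxS) hxT
    let S' : Closeds Y := ⟨(S : Set Y) ∩ ((V : Set Y) ∩ (T (a + 1) : Set Y)ᶜ)ᶜ,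
      S.isClosed.inter (V.isOpen.inter (T (a + 1)).isClosed.isOpen_compl).isClosed_compl⟩
    have hS'S : S' ≤ S := fun y hy => hy.1
    have hlt : S' < S := by
      refine lt_of_le_of_ne hS'S fun h => ?_
      have : x ∈ S' := by rw [h]; exact hxS
      exact this.2 ⟨hxV, hxT⟩
    obtain ⟨g', e'⟩ := ih S' hlt
    -- the closed immersion `S' → S`
    have hle : Scheme.IdealSheafData.vanishingIdeal S ≤ Scheme.IdealSheafData.vanishingIdeal S' :=
      Scheme.IdealSheafData.vanishingIdeal_antimono hS'S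
    let i : YT S' ⟶ YT S := Scheme.IdealSheafData.inclusion hle
    have hi : i ≫ ιT S = ιT S' := Scheme.IdealSheafData.inclusion_subschemeι hle
    have hcl : IsClosedImmersion i := by
      have : IsClosedImmersion (i ≫ ιT S) := by rw [hi]; infer_instance
      exact IsClosedImmersion.of_comp i (ιT S)
    have hinj : Function.Injective (ιT S) := (ιT S).isClosedEmbedding.injective
    have hrange : ∀ y : YT S, y ∈ Set.range i ↔ ιT S y ∈ S' := by
      intro y
      constructor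
      · rintro ⟨z, rfl⟩
        have h2 : (ιT S) (i z) = ιT S' z := by rw [← Scheme.Hom.comp_apply, hi]
        rw [h2]
        have h3 : ιT S' z ∈ Set.range (ιT S') := ⟨z, rfl⟩
        rw [range_ιT] at h3
        exact h3
      · intro h
        have h3 : ιT S y ∈ Set.range (ιT S') := by rw [range_ιT]; exact h
        obtain ⟨z, hz⟩ := h3
        refine ⟨z, hinj ?_⟩
        rw [← Scheme.Hom.comp_apply, hi, hz]
    let U : (YT S).Opens := ⟨(Set.range i)ᶜ, i.isClosedEmbedding.isClosed_range.isOpen_compl⟩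
    have hUr : IsReduced U.toScheme := inferInstance
    obtain ⟨φ⟩ := hV U (U.ι ≫ ιT S) (fun c => by
      have h1 : U.ι c ∈ U := c.2
      have h2 : ιT S (U.ι c) ∉ S' := fun h => h1 ((hrange _).2 h)
      have h3 : ιT S (U.ι c) ∈ S := by
        have h4 : ιT S (U.ι c) ∈ Set.range (ιT S) := ⟨_, rfl⟩
        rw [range_ιT] at h4
        exact h4
      have h5 : ιT S (U.ι c) ∈ (V : Set Y) ∩ (T (a + 1) : Set Y)ᶜ := by
        by_contra h6
        exact h2 ⟨h3, h6⟩
      rw [Scheme.Hom.comp_apply]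
      exact ⟨h5.1, hSa h3, h5.2⟩)
    obtain ⟨k1, k2⟩ := EulerConst.main (YT S) ℓ (hfin S) (G a) (hG a)
    obtain ⟨k1', k2'⟩ := EulerConst.main (YT S') ℓ (hfin S') (G a) (hG a)
    have m1 : GoodE (YT S') ((EtCoh.pull i).obj ((cst (YT S)).obj (AddCommGrpCat.of (G a)))) :=
      k1'.iso (pullCst i _).symm
    have m2 : GoodE (YT S') ((EtCoh.pull i).obj ((EtCoh.pull (ιT S)).obj F)) :=
      g'.iso ((EtCore.pullCongr hi.symm ≪≫ EtCore.pullComp i (ιT S)).app F)
    have m3 : e (YT S') ((EtCoh.pull i).obj ((EtCoh.pull (ιT S)).obj F)) =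
        e (YT S') ((EtCoh.pull (ιT S')).obj F) :=
      e_iso ((EtCore.pullCongr hi.symm ≪≫ EtCore.pullComp i (ιT S)).app F).symm
    have hφ : Nonempty ((EtCoh.pull U.ι).obj ((EtCoh.pull (ιT S)).obj F) ≅
        (EtCoh.pull U.ι).obj ((cst (YT S)).obj (AddCommGrpCat.of (G a)))) :=
      ⟨((EtCore.pullComp U.ι (ιT S)).app F).symm ≪≫ φ ≪≫ (pullCst U.ι _).symm⟩
    refine ⟨good_of_iso i U rfl _ _ hφ k1 m1 m2, ?_⟩
    have key := e_sub_of_iso i U rfl _ _ hφ k1 m1 m2
    rw [m3, k2, e_iso (pullCst i _), k2', e'] at key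
    have key2 : e (YT S) ((EtCoh.pull (ιT S)).obj F) =
        (∑ a ∈ Finset.range N, lg (G a) / Real.log ℓ * (χ ℓ (S' ⊓ T a) - χ ℓ (S' ⊓ T (a + 1)))) +
          lg (G a) / Real.log ℓ * (χ ℓ S - χ ℓ S') := by
      change _ = _ + lg (G a) / Real.log ℓ * (ec ℓ (YT S) - ec ℓ (YT S'))
      rw [mul_sub]
      linarith
    rw [key2]
    have key3 : ∑ b ∈ Finset.range N, (lg (G b) / Real.log ℓ * (χ ℓ (S ⊓ T b) - χ ℓ (S ⊓ T (b + 1))) -
        lg (G b) / Real.log ℓ * (χ ℓ (S' ⊓ T b) - χ ℓ (S' ⊓ T (b + 1)))) =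
          lg (G a) / Real.log ℓ * (χ ℓ S - χ ℓ S') := by
      rw [Finset.sum_eq_single a]
      · have e1 : S ⊓ T a = S := inf_eq_left.2 hSa
        have e2 : S' ⊓ T a = S' := inf_eq_left.2 (hS'S.trans hSa)
        have e3 : S' ⊓ T (a + 1) = S ⊓ T (a + 1) := by
          ext y
          constructor
          · rintro ⟨h1, h2⟩
            exact ⟨h1.1, h2⟩
          · rintro ⟨h1, h2⟩
            exact ⟨⟨h1, fun h => h.2 h2⟩, h2⟩
        rw [e1, e2, e3]
        ring
      · intro b _ hb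
        rcases lt_or_gt_of_ne hb with hb | hb
        · have e1 : S ⊓ T b = S := inf_eq_left.2 (hSa.trans (hanti (by omega)))
          have e2 : S ⊓ T (b + 1) = S := inf_eq_left.2 (hSa.trans (hanti (by omega)))
          have e3 : S' ⊓ T b = S' := inf_eq_left.2 ((hS'S.trans hSa).trans (hanti (by omega)))
          have e4 : S' ⊓ T (b + 1) = S' := inf_eq_left.2 ((hS'S.trans hSa).trans (hanti (by omega)))
          rw [e1, e2, e3, e4]
          ring
        · have e5 : ∀ c, a + 1 ≤ c → S' ⊓ T c = S ⊓ T c := by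
            intro c hc
            ext y
            constructor
            · rintro ⟨h1, h2⟩
              exact ⟨h1.1, h2⟩
            · rintro ⟨h1, h2⟩
              exact ⟨⟨h1, fun h => h.2 (hanti hc h2)⟩, h2⟩
          rw [e5 b (by omega), e5 (b + 1) (by omega)]
          ring
      · intro h
        exact absurd (Finset.mem_range.2 haN) h
    rw [← key3, ← Finset.sum_add_distrib]
    refine Finset.sum_congr rfl fun b _ => ?_
    ring

/-- The Euler characteristic of a sheaf which is locally constant along a stratification. -/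
theorem strat : GoodE Y F ∧
    e Y F = ∑ a ∈ Finset.range N, lg (G a) / Real.log ℓ * (χ ℓ (T a) - χ ℓ (T (a + 1))) := by
  obtain ⟨h1, h2⟩ := strat_aux F ℓ hfin N T hanti h0 hN G hG hloc ⊤
  have h3 : ∀ n, Nonempty (EtCoh.H (YT (⊤ : Closeds Y)) ((EtCoh.pull (ιT (⊤ : Closeds Y))).obj F) n ≃
      EtCoh.H Y F n) := by
    intro n
    obtain ⟨a⟩ := nonempty_H_closed (ιT (⊤ : Closeds Y)) F (𝟙 Y) (by
      rw [range_ιT]
      simp) n
    exact ⟨a.trans (nonempty_H_iso ((EtpbcA.PullFLC.pullId Y).app F) n).some⟩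
  refine ⟨h1.congr h3, ?_⟩
  rw [← e_congr h3, h2]
  refine Finset.sum_congr rfl fun a _ => ?_
  rw [top_inf_eq, top_inf_eq]

end Strat

end Groth.Agent.Lefpen.H714.EulerStrat
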