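import Groth.Agent.CalgB.PowSer
import Groth.Agent.Etdl.H438.PowStrict
import Groth.Prelude.Def_EtBase
import Mathlib.RingTheory.PowerSeries.Inverse
import Mathlib.FieldTheory.IsSepClosed
import Mathlib.RingTheory.Henselian

/-!
# The trait `Spec k⟦X⟧`

`k` separably closed: `k⟦X⟧` is a strictly henselian discrete valuation ring with residue field `k`.
-/

set_option autoImplicit false
universe u

open IsLocalRing

namespace Groth.Agent.Lefpen.H714.Trait

variable (k : Type u) [Field k]

instance henselian : HenselianLocalRing (PowerSeries k) := by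
  have h0 : IsAdicComplete (maximalIdeal k) k := by
    have h1 : maximalIdeal k = ⊥ := IsLocalRing.maximalIdeal_eq_bot
    rw [h1]
    infer_instance
  have := Groth.Agent.CalgB.PowSer.isAdicComplete_powerSeries (A := k)
  exact Groth.Agent.Etdl.H438.PowStrict.henselian_of_isAdicComplete _

instance isSepClosed_residueField [IsSepClosed k] : IsSepClosed (ResidueField (PowerSeries k)) :=
  Groth.Agent.EtpbcB.StrHensEquiv.isSepClosed_of_ringEquiv (PowerSeries.residueFieldOfPowerSeries (k := k)).symm

theorem strict [IsSepClosed k] : EtCoh.IsStrictlyHenselianLocalRing (PowerSeries k) :=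
  ⟨henselian k, isSepClosed_residueField k⟩

/-- The composite `k → k⟦X⟧ → residue field` is bijective. -/
theorem bijective_residue : Function.Bijective ((residue (PowerSeries k)).comp (algebraMap k (PowerSeries k))) := by
  have h1 : ∀ a : k, PowerSeries.residueFieldOfPowerSeries (residue (PowerSeries k)
      (algebraMap k (PowerSeries k) a)) = a := by
    intro a
    change PowerSeries.constantCoeff (algebraMap k (PowerSeries k) a) = a
    simp
  constructor
  · intro a b h
    have h2 : residue (PowerSeries k) (algebraMap k (PowerSeries k) a) =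
        residue (PowerSeries k) (algebraMap k (PowerSeries k) b) := h
    rw [← h1 a, h2, h1]
  · intro y
    refine ⟨PowerSeries.residueFieldOfPowerSeries y, ?_⟩
    apply (PowerSeries.residueFieldOfPowerSeries (k := k)).injective
    exact h1 _

theorem residue_X : residue (PowerSeries k) PowerSeries.X = 0 := by
  rw [residue_eq_zero_iff]
  rw [mem_maximalIdeal, mem_nonunits_iff, PowerSeries.isUnit_iff_constantCoeff, PowerSeries.constantCoeff_X]
  exact not_isUnit_zero

theorem isUnit_natCast (ℓ : ℕ) (hℓ : (ℓ : k) ≠ 0) : IsUnit (ℓ : PowerSeries k) := by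
  rw [PowerSeries.isUnit_iff_constantCoeff, map_natCast]
  exact IsUnit.mk0 _ hℓ

/-- the uniformizer is not a constant in any field containing `k⟦X⟧` -/
theorem X_ne (L : Type u) [Field L] (φ : PowerSeries k →+* L) (hφ : Function.Injective φ) (c : k) :
    φ (algebraMap k (PowerSeries k) c) ≠ φ PowerSeries.X := by
  intro h
  have h1 := hφ h
  have h2 := congrArg (PowerSeries.coeff 1) h1
  rw [PowerSeries.coeff_one_X] at h2
  rw [PowerSeries.algebraMap_apply, Algebra.algebraMap_self_apply, PowerSeries.coeff_C] at h2
  simp at h2

end Groth.Agent.Lefpen.H714.Trait
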