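import Groth.Agent.Lefpen.H714.EulerStrat
import Groth.Agent.S0162
import Groth.Agent.Sga4B.DualStep
import Groth.Agent.Etrest.ConstBasic
import Groth.Agent.EtpbcB.RedUBC
import Groth.Agent.EtpbcB.SBCConst
import Groth.Agent.Etcore.Torsion
import Groth.Agent.Sga4B.ConstLC
import Groth.Agent.Ega1.ReducedSub

/-!
# The sheaves `R^q j_* Z/ℓ` on schemes over a base, pulled back to points of models

`η : T ⟶ S`, `f : X ⟶ S`, `Gq η ℓ f q = R^q j_* (Z/ℓ)`, `j : X ×_S T ⟶ X`.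
* `nonempty_pull_Gq`: smooth base change;
* `Ao`: the value of `Gq` at a closed geometric point of a model;
* `local_const`: along a smooth morphism to a model, `Gq` is constant on reduced schemes mapping to the point.
-/

set_option autoImplicit false
set_option linter.auxLemma false
universe u
open CategoryTheory CategoryTheory.Limits CategoryTheory.Abelian AlgebraicGeometry Opposite TopologicalSpace
open Groth.Agent.Etrest Groth.Agent.Sga4B

namespace Groth.Agent.Lefpen.H714.NcBase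

open EulerAlg EulerEt EulerOC EulerMV EulerConst EulerStrat

variable {S T : Scheme.{u}} (η : T ⟶ S) (ℓ : ℕ)

/-- `R^q j_* Z/ℓ`, `j : X ×_S T ⟶ X`. -/
noncomputable abbrev Gq {X : Scheme.{u}} (f : X ⟶ S) (q : ℕ) : EtCoh.Ab X :=
  (EtCoh.Rpush (pullback.fst f η) q).obj (EtCoh.const (pullback f η) (ZMod ℓ))

theorem killedBy_const (X : Scheme.{u}) : EtCoh.KilledBy ℓ (EtCoh.const X (ZMod ℓ)) :=
  Etrest.ConstBasic.killedBy_const X (ZMod ℓ) ℓ (fun m => by simp)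

theorem killedBy_Gq {X : Scheme.{u}} (f : X ⟶ S) (q : ℕ) : EtCoh.KilledBy ℓ (Gq η ℓ f q) :=
  Sga4B.DualStep.killedBy_Rpush _ ℓ _ (killedBy_const ℓ _) q

/-- base change square -/
theorem isPullback_left {V M : Scheme.{u}} (h : V ⟶ M) (f : M ⟶ S) (g : V ⟶ S) (w : h ≫ f = g) :
    IsPullback (pullback.lift (pullback.fst g η ≫ h) (pullback.snd g η)
      (by rw [Category.assoc, w]; exact pullback.condition)) (pullback.fst g η) (pullback.fst f η) h := by
  have h1 : IsPullback (pullback.snd f η) (pullback.fst f η) η f := (IsPullback.of_hasPullback f η).flip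
  refine IsPullback.of_right (h₁₂ := pullback.snd f η) (h₂₂ := f) (v₁₃ := η) ?_ ?_ h1
  · rw [pullback.lift_snd, w]
    exact (IsPullback.of_hasPullback g η).flip
  · rw [pullback.lift_fst]

variable [QuasiCompact η] [QuasiSeparated η]

theorem nonempty_pull_Gq {V M : Scheme.{u}} (h : V ⟶ M) [Smooth h] (f : M ⟶ S) (g : V ⟶ S) (w : h ≫ f = g)
    (hℓ : IsUnit (ℓ : Γ(M, ⊤))) (q : ℕ) :
    Nonempty ((EtCoh.pull h).obj (Gq η ℓ f q) ≅ Gq η ℓ g q) := by
  obtain ⟨⟨e⟩, -⟩ := Groth.Agent.S0162.result h (pullback.fst f η) (pullback.fst g η) _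
    (isPullback_left η h f g w) (EtCoh.const _ (ZMod ℓ))
    (EtpbcB.Red.isTorsionInvertibleOn_of_killedBy M hℓ (killedBy_const ℓ _)) q
  exact ⟨e ≪≫ (EtCoh.Rpush (pullback.fst g η) q).mapIso (EtCore.pullConst _ (ZMod ℓ))⟩

/-- The global sections of a sheaf on the spectrum of a separably closed field. -/
noncomputable abbrev Apt (k : Type u) [Field k] (G : EtCoh.Ab (Spec (CommRingCat.of k))) : AddCommGrpCat.{u + 1} :=
  G.obj.obj (op (EtCoh.top (Spec (CommRingCat.of k))))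

theorem nonempty_pull_pt {k : Type u} [Field k] [IsSepClosed k] {C : Scheme.{u}}
    (c : C ⟶ Spec (CommRingCat.of k)) (G : EtCoh.Ab (Spec (CommRingCat.of k))) :
    Nonempty ((EtCoh.pull c).obj G ≅ (cst C).obj (AddCommGrpCat.of (Apt k G))) := by
  obtain ⟨e⟩ := EtpbcB.SBCConst.nonempty_iso_LC k G
  exact ⟨(EtCoh.pull c).mapIso (e.symm ≪≫ (Sga4B.ConstLC.constIsoLC _ _).symm) ≪≫ pullCst c _⟩

/-- The value of `Gq` at the point `o` of the model. -/
noncomputable abbrev Ao {k : Type u} [Field k] {M : Scheme.{u}} (f : M ⟶ S) (o : Spec (CommRingCat.of k) ⟶ M)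
    (q : ℕ) : AddCommGrpCat.{u + 1} :=
  Apt k ((EtCoh.pull o).obj (Gq η ℓ f q))

omit [QuasiCompact η] [QuasiSeparated η] in
theorem nsmul_Ao {k : Type u} [Field k] {M : Scheme.{u}} (f : M ⟶ S) (o : Spec (CommRingCat.of k) ⟶ M)
    (q : ℕ) (x : Ao η ℓ f o q) : ℓ • x = 0 :=
  Etcore.Torsion.killedBy_pull ℓ o _ (killedBy_Gq η ℓ f q) _ x

theorem local_const {k : Type u} [Field k] [IsSepClosed k] {W M V : Scheme.{u}} (f : W ⟶ S) (g : M ⟶ S)
    (v : V ⟶ W) [IsOpenImmersion v] (h : V ⟶ M) [Smooth h] (w : h ≫ g = v ≫ f)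
    (o : Spec (CommRingCat.of k) ⟶ M) [IsClosedImmersion o] (hW : IsUnit (ℓ : Γ(W, ⊤)))
    (hM : IsUnit (ℓ : Γ(M, ⊤))) (q : ℕ) (C : Scheme.{u}) [IsReduced C] (κ : C ⟶ W)
    (hκ : ∀ c, ∃ y, v y = κ c) (hκ' : ∀ c y, v y = κ c → h y ∈ Set.range o) :
    Nonempty ((EtCoh.pull κ).obj (Gq η ℓ f q) ≅ (cst C).obj (AddCommGrpCat.of (Ao η ℓ g o q))) := by
  have h1 : Set.range κ ⊆ Set.range v := by
    rintro _ ⟨c, rfl⟩
    exact hκ c
  let κ' : C ⟶ V := IsOpenImmersion.lift v κ h1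
  have hk : κ' ≫ v = κ := IsOpenImmersion.lift_fac v κ h1
  have h2 : Set.range (κ' ≫ h) ⊆ Set.range o := by
    rintro _ ⟨c, rfl⟩
    rw [Scheme.Hom.comp_apply]
    refine hκ' c _ ?_
    rw [← Scheme.Hom.comp_apply, hk]
  obtain ⟨c, hc⟩ := Ega1.ReducedSub.exists_factor_of_range_subset (κ' ≫ h) o h2
  obtain ⟨e1⟩ := nonempty_pull_Gq η ℓ v f (v ≫ f) rfl hW q
  obtain ⟨e2⟩ := nonempty_pull_Gq η ℓ h g (v ≫ f) w hM q
  obtain ⟨e3⟩ := nonempty_pull_pt c ((EtCoh.pull o).obj (Gq η ℓ g q))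
  exact ⟨(EtCore.pullCongr hk.symm ≪≫ EtCore.pullComp κ' v).app _ ≪≫ (EtCoh.pull κ').mapIso (e1 ≪≫ e2.symm) ≪≫
    ((EtCore.pullComp κ' h).symm ≪≫ EtCore.pullCongr hc.symm ≪≫ EtCore.pullComp c o).app _ ≪≫ e3⟩

end Groth.Agent.Lefpen.H714.NcBase
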