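import Groth.Agent.Lefpen.H714.NcBase
import Groth.Agent.S3095

/-!
# The nearby cycle Euler characteristic formula

`R` strictly henselian local, `η : Spec Ω ⟶ Spec R`, `f : W ⟶ Spec R` proper with closed fibre `Y`, closed subsets
`T 0 = ⊤ ⊇ T 1 ⊇ ... ⊇ T N = ⊥` of `Y`, such that near the points of `T a ∖ T (a+1)` the `R`-scheme `W` is smooth over a
model `g a : M a ⟶ Spec R`, the stratum mapping to the point `o a`. Then
`ec ℓ (W ×_R Ω) = ∑_{a < N} mu (g a) (o a) * (χ(T a) - χ(T (a+1)))`.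
-/

set_option autoImplicit false
set_option linter.auxLemma false
set_option linter.unusedSectionVars false
universe u
open CategoryTheory CategoryTheory.Limits CategoryTheory.Abelian AlgebraicGeometry Opposite TopologicalSpace
open Groth.Agent.Etrest Groth.Agent.Sga4B

namespace Groth.Agent.Lefpen.H714.NcMain

open EulerAlg EulerEt EulerOC EulerMV EulerConst EulerStrat NcBase

attribute [local instance 10000] EtCoh.H._proof_1 EtCoh.Rpush._proof_2
attribute [local instance 10000] TwoRowEt.he TwoRowEt.hinj TwoRowEt.hPullAdd TwoRowEt.hPullPFL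
  TwoRowEt.hPullPFC TwoRowEt.hasKInj

/-- The Euler number of the nearby cycles of the model at its point `o`. -/
noncomputable def mu {S T : Scheme.{u}} (η : T ⟶ S) (ℓ : ℕ) {k : Type u} [Field k] {M : Scheme.{u}} (g : M ⟶ S)
    (o : Spec (CommRingCat.of k) ⟶ M) : ℝ :=
  chi (fun q => Ao η ℓ g o q) / Real.log ℓ

variable (R : Type u) [CommRing R] [HenselianLocalRing R] [IsSepClosed (IsLocalRing.ResidueField R)]

/-- The inclusion of the closed point. -/
noncomputable abbrev cpt : Spec (CommRingCat.of (IsLocalRing.ResidueField R)) ⟶ Spec (CommRingCat.of R) :=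
  Spec.map (CommRingCat.ofHom (IsLocalRing.residue R))

variable {T : Scheme.{u}} (η : T ⟶ Spec (CommRingCat.of R)) [QuasiCompact η] [QuasiSeparated η]
  (ℓ : ℕ) [Fact ℓ.Prime] (hℓ : IsUnit (ℓ : R))

theorem isUnit_sections {X : Scheme.{u}} (f : X ⟶ Spec (CommRingCat.of R)) {ℓ : ℕ} (hℓ : IsUnit (ℓ : R)) :
    IsUnit (ℓ : Γ(X, ⊤)) := by
  have h1 := hℓ.map (f.appTop.hom.comp (Scheme.ΓSpecIso (CommRingCat.of R)).inv.hom)
  rwa [map_natCast] at h1

variable {W : Scheme.{u}} (f : W ⟶ Spec (CommRingCat.of R)) [IsProper f]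
  [NoetherianSpace (pullback f (cpt R) : Scheme.{u})]
  (hfin : ∀ D : Closeds (pullback f (cpt R) : Scheme.{u}), GoodE (YT D) (EtCoh.const (YT D) (ZMod ℓ)))
  (N : ℕ) (D : ℕ → Closeds (pullback f (cpt R) : Scheme.{u})) (hanti : Antitone D) (h0 : D 0 = ⊤) (hN : D N = ⊥)
  (M : ℕ → Scheme.{u}) (g : ∀ a, M a ⟶ Spec (CommRingCat.of R))
  (o : ∀ a, Spec (CommRingCat.of (IsLocalRing.ResidueField R)) ⟶ M a) [∀ a, IsClosedImmersion (o a)]
  (hM : ∀ a, Good (fun q => Ao η ℓ (g a) (o a) q))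
  (hloc : ∀ a < N, ∀ x ∈ D a, x ∉ D (a + 1) → ∃ (V : Scheme.{u}) (v : V ⟶ W) (_ : IsOpenImmersion v)
    (h : V ⟶ M a) (_ : Smooth h), h ≫ g a = v ≫ f ∧ pullback.fst f (cpt R) x ∈ Set.range v ∧
      ∀ (y : V), ∀ z ∈ D a, z ∉ D (a + 1) → v y = pullback.fst f (cpt R) z → h y ∈ Set.range (o a))

include hℓ hloc in
/-- local constancy on the strata, for the closed fibre -/
theorem hloc' (q : ℕ) : ∀ a < N, ∀ x ∈ D a, x ∉ D (a + 1) → ∃ V : (pullback f (cpt R) : Scheme.{u}).Opens, x ∈ V ∧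
    ∀ (C : Scheme.{u}) [IsReduced C] (κ : C ⟶ pullback f (cpt R)),
    (∀ c, κ c ∈ V ∧ κ c ∈ D a ∧ κ c ∉ D (a + 1)) →
      Nonempty ((EtCoh.pull κ).obj ((EtCoh.pull (pullback.fst f (cpt R))).obj (Gq η ℓ f q)) ≅
        (cst C).obj (AddCommGrpCat.of (Ao η ℓ (g a) (o a) q))) := by
  intro a ha x hx hx'
  obtain ⟨V, v, i1, h, i2, w, hxv, hv⟩ := hloc a ha x hx hx'
  refine ⟨(pullback.fst f (cpt R)) ⁻¹ᵁ v.opensRange, hxv, fun C _ κ hκ => ?_⟩
  obtain ⟨e⟩ := local_const η ℓ f (g a) v h w (o a) (isUnit_sections R f hℓ) (isUnit_sections R (g a) hℓ) q C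
    (κ ≫ pullback.fst f (cpt R)) (fun c => (hκ c).1) (fun c y hy => hv y (κ c) (hκ c).2.1 (hκ c).2.2 hy)
  exact ⟨(EtCore.pullComp κ (pullback.fst f (cpt R))).symm.app _ ≪≫ e⟩

include hfin hanti h0 hN hM hℓ hloc in
theorem row (q : ℕ) : GoodE (pullback f (cpt R)) ((EtCoh.pull (pullback.fst f (cpt R))).obj (Gq η ℓ f q)) ∧
    e (pullback f (cpt R)) ((EtCoh.pull (pullback.fst f (cpt R))).obj (Gq η ℓ f q)) =
      ∑ a ∈ Finset.range N, lg (Ao η ℓ (g a) (o a) q) / Real.log ℓ * (χ ℓ (D a) - χ ℓ (D (a + 1))) := by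
  have : ∀ a, Finite (Ao η ℓ (g a) (o a) q) := fun a => (hM a).fin q
  exact strat ((EtCoh.pull (pullback.fst f (cpt R))).obj (Gq η ℓ f q)) ℓ hfin N D hanti h0 hN
    (fun a => Ao η ℓ (g a) (o a) q) (fun a x => nsmul_Ao η ℓ (g a) (o a) q x)
    (hloc' R η ℓ hℓ f N D M g o hloc q)

include hanti h0 hN hℓ hloc in
theorem isZero_row (q : ℕ) (hq : ∀ a < N, Subsingleton (Ao η ℓ (g a) (o a) q)) :
    IsZero ((EtCoh.pull (pullback.fst f (cpt R))).obj (Gq η ℓ f q)) := by
  refine Etcore.PullJoint.isZero_of_pull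
    (π := fun x : (pullback f (cpt R) : Scheme.{u}) => (pullback f (cpt R)).fromSpecResidueField x)
    (fun x => ⟨x, default, ?_⟩) _ fun x => ?_
  · exact Scheme.fromSpecResidueField_apply _ _
  · -- the stratum of `x`
    have hex : ∃ a, x ∉ D (a + 1) := by
      refine ⟨N, fun hx => ?_⟩
      have : x ∈ D N := hanti (Nat.le_succ N) hx
      rw [hN] at this
      exact this
    classical
    have h1 : x ∉ D (Nat.find hex + 1) := Nat.find_spec hex
    have h2 : x ∈ D (Nat.find hex) := by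
      rcases Nat.eq_zero_or_pos (Nat.find hex) with h | h
      · rw [h, h0]; trivial
      · by_contra hx
        exact Nat.find_min hex (m := Nat.find hex - 1) (by omega) (by rwa [Nat.sub_add_cancel h])
    have h3 : Nat.find hex < N := by
      by_contra h
      have : x ∈ D N := hanti (not_lt.1 h) h2
      rw [hN] at this
      exact this
    obtain ⟨V, hV, hV'⟩ := hloc' R η ℓ hℓ f N D M g o hloc q _ h3 x h2 h1
    have h4 : ∀ c, (pullback f (cpt R)).fromSpecResidueField x c = x := fun c =>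
      Scheme.fromSpecResidueField_apply _ _
    have hred : IsReduced (Spec ((pullback f (cpt R) : Scheme.{u}).residueField x)) := inferInstance
    obtain ⟨e⟩ := hV' _ ((pullback f (cpt R)).fromSpecResidueField x) (fun c => by
      rw [h4]
      exact ⟨hV, h2, h1⟩)
    have h5 := hq _ h3
    exact ((cst _).map_isZero (AddCommGrpCat.isZero_of_subsingleton _)).of_iso e

include hℓ in
omit [IsProper f] in
theorem isTorsion_Gq (q : ℕ) : EtCoh.IsTorsion (Gq η ℓ f q) :=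
  EtpbcB.TorsEt.isTorsion_of_killedBy (Fact.out : ℓ.Prime).pos _ (killedBy_Gq η ℓ f q)

theorem nonempty_H_closedFibre (G : EtCoh.Ab W) (hG : EtCoh.IsTorsion G) (n : ℕ) :
    Nonempty (EtCoh.H (pullback f (cpt R)) ((EtCoh.pull (pullback.fst f (cpt R))).obj G) n ≃ EtCoh.H W G n) :=
  ⟨(Equiv.ofBijective _ (Groth.Agent.S3095.result R W f G hG n)).symm⟩

include hfin hanti h0 hN hM hℓ hloc in
/-- The nearby cycle Euler characteristic formula. -/
theorem main : GoodE (pullback f η) (EtCoh.const (pullback f η) (ZMod ℓ)) ∧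
    ec ℓ (pullback f η) = ∑ a ∈ Finset.range N, mu η ℓ (g a) (o a) * (χ ℓ (D a) - χ ℓ (D (a + 1))) := by
  obtain ⟨Q, hQ⟩ : ∃ Q : ℕ, ∀ a < N, ∀ q, Q < q → Subsingleton (Ao η ℓ (g a) (o a) q) := by
    choose b hb using fun a => (hM a).bdd
    refine ⟨∑ a ∈ Finset.range N, b a, fun a ha q hq => hb a q (lt_of_le_of_lt ?_ hq)⟩
    exact Finset.single_le_sum (fun _ _ => Nat.zero_le _) (Finset.mem_range.2 ha)
  have h1 : ∀ q, GoodE W (Gq η ℓ f q) := fun q =>
    (row R η ℓ hℓ f hfin N D hanti h0 hN M g o hM hloc q).1.congr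
      fun n => nonempty_H_closedFibre R f _ (isTorsion_Gq R η ℓ hℓ f q) n
  have h2 : ∀ q, Q < q → ∀ p, Subsingleton (EtCoh.H W (Gq η ℓ f q) p) := fun q hq p => by
    have hz := isZero_row R η ℓ hℓ f N D hanti h0 hN M g o hloc q (fun a ha => hQ a ha q hq)
    have := Sga4B.DualStep.subsingleton_H_of_isZero hz p
    exact (nonempty_H_closedFibre R f _ (isTorsion_Gq R η ℓ hℓ f q) p).some.symm.subsingleton
  obtain ⟨h3, h4⟩ := leray (pullback.fst f η) Q (EtCoh.const (pullback f η) (ZMod ℓ)) h1 h2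
  refine ⟨h3, ?_⟩
  have h5 : ∀ q, e W (Gq η ℓ f q) =
      ∑ a ∈ Finset.range N, lg (Ao η ℓ (g a) (o a) q) / Real.log ℓ * (χ ℓ (D a) - χ ℓ (D (a + 1))) := fun q => by
    rw [← (row R η ℓ hℓ f hfin N D hanti h0 hN M g o hM hloc q).2]
    exact (e_congr fun n => nonempty_H_closedFibre R f _ (isTorsion_Gq R η ℓ hℓ f q) n).symm
  have h6 : ec ℓ (pullback f η) = ∑ q ∈ Finset.range (Q + 1), (-1 : ℝ) ^ q * e W (Gq η ℓ f q) := h4
  rw [h6]
  simp_rw [h5, Finset.mul_sum]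
  rw [Finset.sum_comm]
  refine Finset.sum_congr rfl fun a ha => ?_
  have h7 : chi (fun q => Ao η ℓ (g a) (o a) q) =
      ∑ q ∈ Finset.range (Q + 1), (-1 : ℝ) ^ q * lg (Ao η ℓ (g a) (o a) q) :=
    chi_eq_sum Q fun q hq => hQ a (Finset.mem_range.1 ha) q hq
  unfold mu
  rw [h7, div_eq_mul_inv, Finset.sum_mul, Finset.sum_mul]
  refine Finset.sum_congr rfl fun q _ => ?_
  ring

end Groth.Agent.Lefpen.H714.NcMain
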